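import Mathlib
import Cfsg.Agent.Cl.PGammaL2
import Cfsg.Agent.Cl.PSL2Solv
import Cfsg.Agent.Cl.PSL2Excep
import Cfsg.Agent.Inv.Classes
import Cfsg.Agent.Inv.SL2Four
import Cfsg.Agent.Perm.RankOneField
import Cfsg.Agent.LyS.LocP
import Cfsg.Agent.GW.KA7Perm
import Cfsg.Agent.Sym.Aut
import Cfsg.Agent.Loc.MssSyl
import Cfsg.Agent.GW.Basic
import Cfsg.Agent.S2686

/-! Automorphisms of a normal subgroup `L₂(q)` or `A₇`: local balance for outer involutions. -/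

set_option autoImplicit false
set_option linter.unusedSectionVars false

namespace Cfsg.Agent.L4A

open Subgroup Cfsg.Agent.Cl Cfsg.Agent.Cl.L2 Matrix Cfsg.Agent.Loc.Mss Cfsg.Agent.GW
open scoped MatrixGroups

variable {Γ K : Type*} [Group Γ] [Group K] {Λ : K →* Γ}

theorem exists_act (hi : Function.Injective Λ) [Λ.range.Normal] :
    ∃ ψ : Γ →* MulAut K, ∀ g a, Λ (ψ g a) = g * Λ a * g⁻¹ :=
  ⟨(MulAut.congr (MonoidHom.ofInjective hi).symm).toMonoidHom.comp MulAut.conjNormal, fun g a => by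
    have : ∀ x : Λ.range, Λ ((MonoidHom.ofInjective hi).symm x) = x := fun x =>
      MonoidHom.apply_ofInjective_symm hi x
    simp [this, MonoidHom.ofInjective_apply]⟩

section L2

variable {F : Type} [Field F] [Fintype F]

theorem mem_four (two : (2 : F) ≠ 0) {x y : PSL(2, F)} (x2 : x * x = 1) (y2 : y * y = 1)
    (hc : x * y = y * x) (x1 : x ≠ 1) (y1 : y ≠ 1) (hxy : x ≠ y) {c : PGL(2, F)}
    (cx : c * emb x * c⁻¹ = emb x) (cy : c * emb y * c⁻¹ = emb y) : c * c = 1 ∧ ∃ j, emb j = c := by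
  have o2 : ∀ {t : PSL(2, F)}, t * t = 1 → t ≠ 1 → orderOf (emb t) = 2 := fun h h1 => by
    rw [orderOf_injective _ emb_injective]
    exact orderOf_eq_prime (by rw [sq, h]) h1
  have hV := Inv.isKleinFour_closure_pair (o2 x2 x1) (o2 y2 y1) (fun e => hxy (emb_injective e))
    (show emb x * emb y = emb y * emb x by rw [← map_mul, hc, map_mul])
  have hm : c ∈ closure {emb x, emb y} := by
    rw [← centralizer_klein two hV, centralizer_closure, mem_centralizer_iff]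
    rintro t (rfl | rfl)
    exacts [(mul_inv_eq_iff_eq_mul.1 cx).symm, (mul_inv_eq_iff_eq_mul.1 cy).symm]
  have hle : closure {emb x, emb y} ≤ (emb : PSL(2, F) →* PGL(2, F)).range := by
    rw [closure_le]
    rintro t (rfl | rfl)
    exacts [⟨x, rfl⟩, ⟨y, rfl⟩]
  exact ⟨Inv.kleinFour_mul_self hV hm, hle hm⟩

theorem exists_pga_mul : ∃ P : MulAut PSL(2, F) →* PGa F, ∀ α g, emb (α g) = act (P α) (emb g) := by
  choose P hP using exists_pga (F := F)
  refine ⟨MonoidHom.mk' P fun α β => pga_ext fun g => SemidirectProduct.inl_injective (φ := fAut F) ?_, hP⟩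
  rw [← hP, MulAut.mul_apply, hP, hP, ← conj_inl, ← conj_inl, ← conj_inl]
  group

theorem psl_cen {t : PSL(2, F)} (h : ∀ a, t * a * t⁻¹ = a) : t = 1 :=
  emb_injective (SemidirectProduct.inl_injective (φ := fAut F) ((pga_eq_one fun g => by
    rw [act_inl, ← map_inv, ← map_mul, ← map_mul, h]).trans (by simp)))

variable {Λ : PSL(2, F) →* Γ} [Finite Γ]

theorem u2_l2 (hF : Odd (Fintype.card F)) (hi : Function.Injective Λ) [Λ.range.Normal]
    {x x' : PSL(2, F)} (x2 : x * x = 1) (y2 : x' * x' = 1) (hc : x * x' = x' * x) (x1 : x ≠ 1)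
    (y1 : x' ≠ 1) (hxy : x ≠ x') {y w : Γ} (ho : Odd (orderOf y)) (cx : Commute y (Λ x))
    (cy : Commute y (Λ x')) (hw : w * y * w⁻¹ = y⁻¹) : y ∈ 𝐂[Λ.range] := by
  obtain ⟨ψ, hψ⟩ := exists_act hi
  obtain ⟨P, hP⟩ := exists_pga_mul (F := F)
  have := Perm.RankOne.isCyclic_ringAut F
  let f : Γ →* RingAut F := SemidirectProduct.rightHom.comp (P.comp ψ)
  have sq1 : ∀ {M : Type _} [Group M] (f : Γ →* M), f y * f y = 1 → f y = 1 := fun f e =>
    orderOf_eq_one_iff.1 ((Nat.coprime_two_right.2 (ho.of_dvd_nat (orderOf_map_dvd f y))).eq_one_of_dvd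
      (orderOf_dvd_of_pow_eq_one (by rw [sq, e])))
  have h1 : f y = 1 := sq1 f (by
    have e := congrArg f hw
    rw [map_mul, map_mul, map_inv, map_inv, (IsCyclic.isMulCommutative (α := F ≃+* F)).is_comm.comm (f w),
      mul_inv_cancel_right] at e
    exact mul_eq_one_iff_eq_inv.2 e)
  have h2 : ∀ g, emb (ψ y g) = (P (ψ y)).left * emb g * (P (ψ y)).left⁻¹ := fun g => by
    rw [hP, eq_inl (γ := P (ψ y)) h1, act_inl]; rfl
  have fx : ∀ {t}, Commute y (Λ t) → ψ y t = t := fun e => hi (by rw [hψ, e.eq, mul_inv_cancel_right])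
  have h3 := (mem_four (Inv.SLF.two_ne_zero_of_odd hF) x2 y2 hc x1 y1 hxy (by rw [← h2, fx cx])
    (by rw [← h2, fx cy])).1
  have h4 : ψ y = 1 := sq1 ψ (MulEquiv.ext fun g => emb_injective (by
    rw [MulAut.mul_apply, h2, h2, MulAut.one_apply]
    calc _ = (P (ψ y)).left * (P (ψ y)).left * emb g * ((P (ψ y)).left * (P (ψ y)).left)⁻¹ := by group
      _ = _ := by rw [h3]; simp))
  refine mem_cent.2 ?_
  rintro _ ⟨a, rfl⟩
  have := hψ y a
  rw [h4, MulAut.one_apply, eq_mul_inv_iff_mul_eq] at this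
  exact this

theorem u1_l2 (hF : Odd (Fintype.card F)) (h3 : 3 < Fintype.card F) (hi : Function.Injective Λ)
    [Λ.range.Normal] {x x' : PSL(2, F)} (x2 : x * x = 1) (y2 : x' * x' = 1) (hc : x * x' = x' * x)
    (x1 : x ≠ 1) (y1 : x' ≠ 1) (hxy : x ≠ x') {b : Γ} (bb : b * b = 1) (cx : Commute b (Λ x))
    (cy : Commute b (Λ x')) (hb : ∀ j, b * (Λ j)⁻¹ ∉ 𝐂[Λ.range]) {Y : Subgroup Γ}
    (ho : Odd (Nat.card Y)) (hY : Y ≤ Cen b) (hn : Cen b ≤ 𝐍[Y]) : Y ≤ 𝐂[Λ.range] := by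
  obtain ⟨ψ, hψ⟩ := exists_act hi
  have two := Inv.SLF.two_ne_zero_of_odd hF
  have hs : IsSimpleGroup PSL(2, F) := isSimpleGroup_PSL (by rw [Nat.card_eq_fintype_card]; omega)
  have ker : ∀ g, ψ g = 1 ↔ g ∈ 𝐂[Λ.range] := fun g => ⟨fun e => mem_cent.2 (by
      rintro _ ⟨a, rfl⟩
      have := hψ g a
      rwa [e, MulAut.one_apply, eq_mul_inv_iff_mul_eq] at this),
    fun e => MulEquiv.ext fun a => hi (by rw [hψ, ← mem_cent.1 e _ ⟨a, rfl⟩]; simp)⟩
  have inn : ∀ j, ψ (Λ j) = MulAut.conj j := fun j => MulEquiv.ext fun a => hi (by simp [hψ])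
  have fx : ∀ {t}, Commute b (Λ t) → ψ b t = t := fun e => hi (by rw [hψ, e.eq, mul_inv_cancel_right])
  have nb : ∀ j, ψ b ≠ MulAut.conj j := fun j e =>
    hb j ((ker _).1 (by rw [map_mul, map_inv, inn, e, mul_inv_cancel]))
  have hord : orderOf (ψ b) = 2 := orderOf_eq_prime (by rw [sq, ← map_mul, bb, map_one])
    fun e => nb 1 (by rw [e, map_one])
  have hnot : ¬ IsInnerDiagonalAutPSL (ψ b) := by
    rintro ⟨g, hg⟩
    have h2 : ∀ a, emb (ψ b a) = ProjGenLinGroup.mk g * emb a * (ProjGenLinGroup.mk g)⁻¹ := fun a => by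
      obtain ⟨s, rfl⟩ := exists_mk a
      let s' : SL(2, F) := ⟨g.val * s.val * (g⁻¹).val, by
        rw [det_units_conj, s.det_coe]⟩
      rw [hg s s' rfl, ProjectiveSpecialLinearGroup.toPGL_mk, ProjectiveSpecialLinearGroup.toPGL_mk,
        ← map_inv, ← map_mul, ← map_mul]
      exact congrArg _ (Units.ext rfl)
    obtain ⟨j, hj⟩ := (mem_four two x2 y2 hc x1 y1 hxy (by rw [← h2, fx cx]) (by rw [← h2, fx cy])).2
    exact nb j (MulEquiv.ext fun a => emb_injective (by rw [h2, ← hj]; simp))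
  obtain ⟨r, hr⟩ := CharP.exists F
  have : Fact r.Prime := ⟨CharP.char_is_prime F r⟩
  have r2 : 2 ≠ r := fun e => two (by have := CharP.cast_eq_zero F r; rwa [← e] at this)
  let 𝒢 := (Cen b ⊔ Λ.range).map ψ
  have key : pPrimeCore 2 ↥(𝒢 ⊓ centralizer {ψ b}) = ⊥ := by
    by_contra n
    have := ((S2686.result F r 2 le_rfl hs 𝒢 (fun j => ⟨_, mem_sup_right ⟨j, rfl⟩, inn j⟩) 2 r2 _
      ⟨b, mem_sup_left (mem_Cen.2 (Commute.refl b)), rfl⟩ hord hnot).1 n).2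
    refine (Nat.prime_two.coprime_iff_not_dvd.1 this) ?_
    exact (orderOf_eq_prime (p := 2) (x := x) (by rw [sq, x2]) x1).symm.dvd.trans
      (orderOf_dvd_natCard _ (show x ∈ MonoidHom.eqLocus _ _ from fx cx))
  have sub : ∀ α ∈ 𝒢 ⊓ centralizer {ψ b}, ∃ c ∈ Cen b, ψ c = α := by
    rintro _ ⟨⟨g, hg, rfl⟩, h1⟩
    obtain ⟨c, hc', _, ⟨j, rfl⟩, rfl⟩ := (mem_sup_norm' (norm_normal _ _)).1 hg
    have h2 : Commute (ψ b) (ψ (Λ j)) := by
      have h4 : Commute (ψ b) (ψ (c * Λ j)) := (mem_centralizer_singleton_iff.1 h1).symm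
      simpa using (((mem_Cen.1 hc').map ψ).inv_right.mul_right h4)
    have h5 : ψ b j * j⁻¹ = 1 := psl_cen fun a => by
      rw [← MulAut.conj_apply, ← inn, map_mul, map_mul, map_inv, map_inv, hψ, map_mul, map_mul, h2.eq, map_inv]
      simp
    refine ⟨_, mul_mem hc' (mem_Cen.2 (mul_inv_eq_iff_eq_mul.1 ?_)), rfl⟩
    rw [← hψ, mul_inv_eq_one.1 h5]
  intro y hy
  have my : ψ y ∈ 𝒢 ⊓ centralizer {ψ b} := ⟨⟨y, mem_sup_left (hY hy), rfl⟩,
    mem_centralizer_singleton_iff.2 ((mem_Cen.1 (hY hy)).map ψ).symm.eq⟩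
  have nn : ((Y.map ψ).subgroupOf (𝒢 ⊓ centralizer {ψ b})).Normal := ⟨fun a ha g => by
    obtain ⟨c, hc', e⟩ := sub g g.2
    obtain ⟨a', ha', e'⟩ := ha
    exact ⟨_, conj_mem_of_norm (hn hc') ha', by simp [e, e']⟩⟩
  have le : (Y.map ψ).subgroupOf (𝒢 ⊓ centralizer {ψ b}) ≤ ⊥ := key ▸ GT.le_oddCore
    (ho.of_dvd_nat ((card_comap_dvd_of_injective _ _ Subtype.val_injective).trans (card_map_dvd _ _)))
  exact (ker y).1 (congrArg Subtype.val (mem_bot.1 (le (x := ⟨_, my⟩) (mem_map_of_mem ψ hy))))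

end L2

section A7

open Equiv Equiv.Perm A7P

theorem a7_four {y ρ : Perm (Fin 7)} (ho : Odd (orderOf y)) (c : Commute y ρ) (hs : sign ρ = 1)
    (h4 : ρ * ρ * (ρ * ρ) = 1) (h2 : ρ * ρ ≠ 1) : y = 1 := by
  obtain ⟨g, hg⟩ := isConj_iff.1 (isConj_tau (g := ρ * ρ) (orderOf_eq_prime (by rw [sq, h4]) h2) (by simp))
  obtain ⟨i, hi⟩ := exists_prm (g := g * ρ * g⁻¹) (by rw [← hg]; group)
  obtain ⟨j, hj⟩ := exists_prm (g := g * y * g⁻¹) (hg ▸ ((c.mul_right c).conj g).eq)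
  have key : ∀ i, prm i * prm i = tau → sign (prm i) = 1 → prm i * zeta ≠ zeta * prm i ∧
      prm i * zeta ^ 2 ≠ zeta ^ 2 * prm i := by decide +kernel
  have h1 := key i (by rw [hi, conj_mul, hg]) (by simp [hi, hs])
  have h3 : prm i * prm j = prm j * prm i := by rw [hi, hj]; exact (c.symm.conj g).eq
  rcases inZ_of_odd (g := prm j) (prm_comm j) (by
    rwa [hj, ← MulAut.conj_apply, MulEquiv.orderOf_eq]) with e | e | e
  · simpa [e] using hj.symm
  · exact absurd (e ▸ h3) h1.1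
  · exact absurd (e ▸ h3) h1.2

variable {Λ : alternatingGroup (Fin 7) →* Γ}

theorem u1_a7 (hi : Function.Injective Λ) [Λ.range.Normal] {b : Γ} (bb : b * b = 1)
    (hb : ∀ j, b * (Λ j)⁻¹ ∉ 𝐂[Λ.range]) {Y : Subgroup Γ} (ho : ∀ y ∈ Y, Odd (orderOf y))
    (hY : Y ≤ Cen b) (hn : Cen b ≤ 𝐍[Y]) (hle : Y ≤ Λ.range) : Y = ⊥ := by
  obtain ⟨ψ, hψ⟩ := exists_act hi
  obtain ⟨τ, hτ⟩ := Sym.exists_conj_of_aut_alternating (by simp) (by simp) (ψ b)
  have t2 : τ * τ = 1 := Sym.eq_one_of_commute_alternatingGroup (by simp) fun x hx => by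
    have e : (ψ b (ψ b ⟨x, hx⟩) : Perm _) = x := by
      rw [← MulAut.mul_apply, ← map_mul, bb, map_one, MulAut.one_apply]
    rw [hτ, hτ] at e
    conv_lhs => rw [← e]
    simp [mul_assoc]
  have cm : ∀ a : alternatingGroup (Fin 7), Commute b (Λ a) ↔ Commute (a : Perm _) τ := fun a => by
    rw [Commute, SemiconjBy, ← mul_inv_eq_iff_eq_mul, ← hψ, hi.eq_iff, Subtype.ext_iff, hτ,
      mul_inv_eq_iff_eq_mul, eq_comm]
    rfl
  have ts : sign τ = -1 := (Int.units_eq_one_or _).resolve_left fun e => hb ⟨τ, e⟩ (mem_cent.2 (by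
    rintro _ ⟨a, rfl⟩
    have := hψ b ((⟨τ, e⟩ : alternatingGroup _)⁻¹ * a * ⟨τ, e⟩)
    rw [show ψ b _ = a from Subtype.ext (by rw [hτ]; simp [mul_assoc])] at this
    conv_lhs => rw [this]
    simp [mul_assoc]))
  refine eq_bot_iff.2 fun y hy => ?_
  obtain ⟨a, rfl⟩ := hle hy
  have : (a : Perm _) = 1 := LyS.LP.a2 (τ := τ) (Y := (Y.comap Λ).map (alternatingGroup _).subtype)
    (by rintro _ ⟨u, hu, rfl⟩; simpa [orderOf_injective Λ hi] using ho _ hu)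
    (by rintro _ ⟨u, hu, rfl⟩; exact (cm u).1 (mem_Cen.1 (hY hu)))
    (by
      rintro c hc h1 _ ⟨u, hu, rfl⟩
      exact ⟨⟨c, hc⟩ * u * ⟨c, hc⟩⁻¹, by
        simpa using conj_mem_of_norm (hn (mem_Cen.2 ((cm ⟨c, hc⟩).2 h1))) hu, rfl⟩)
    (by simp) (by simp) t2 ts ⟨a, hy, rfl⟩
  rw [show a = 1 from Subtype.ext this, map_one]
  exact one_mem _

end A7

end Cfsg.Agent.L4A
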