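import Mathlib
import Cfsg.Agent.P4.Model
import Cfsg.Agent.P4.Kit

/-!
The wreath product `DW k = D_{2^(k+3)} ≀ 2` of order `2^(2k+7)`: the Sylow 2-subgroup of `L₄(q)`,
`2^(k+2) ∥ q + 1`.  An element is a pair `(x, y)` in `ℤ/2^(k+2)` together with a signed permutation
(`e`, `f` the signs, `p` the swap); `P4.PS k` is the subgroup `x + y` even.
-/

set_option autoImplicit false

namespace Cfsg.Agent.L4A

open Cfsg.Agent.Inv.Fz Cfsg.Agent.G2T Cfsg.Agent.P4 Cfsg.Agent.Loc.Mss Cfsg.Agent.GW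

variable {k : ℕ}

/-- The wreath product of a dihedral group of order `2^(k+3)` by a group of order two. -/
@[ext] structure DW (k : ℕ) : Type where
  x : R k
  y : R k
  e : Bool
  f : Bool
  p : Bool
  deriving DecidableEq

namespace DW

instance : Mul (DW k) := ⟨fun g h => ⟨g.x + sg g.e (cond g.p h.y h.x), g.y + sg g.f (cond g.p h.x h.y),
  xor g.e (cond g.p h.f h.e), xor g.f (cond g.p h.e h.f), xor g.p h.p⟩⟩

instance : One (DW k) := ⟨⟨0, 0, false, false, false⟩⟩

instance : Inv (DW k) := ⟨fun g => ⟨-cond g.p (sg g.f g.y) (sg g.e g.x),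
  -cond g.p (sg g.e g.x) (sg g.f g.y), cond g.p g.f g.e, cond g.p g.e g.f, g.p⟩⟩

section
variable (g h : DW k)
@[simp] theorem mul_x : (g * h).x = g.x + sg g.e (cond g.p h.y h.x) := rfl
@[simp] theorem mul_y : (g * h).y = g.y + sg g.f (cond g.p h.x h.y) := rfl
@[simp] theorem mul_e : (g * h).e = xor g.e (cond g.p h.f h.e) := rfl
@[simp] theorem mul_f : (g * h).f = xor g.f (cond g.p h.e h.f) := rfl
@[simp] theorem mul_p : (g * h).p = xor g.p h.p := rfl
@[simp] theorem one_x : (1 : DW k).x = 0 := rfl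
@[simp] theorem one_y : (1 : DW k).y = 0 := rfl
@[simp] theorem one_e : (1 : DW k).e = false := rfl
@[simp] theorem one_f : (1 : DW k).f = false := rfl
@[simp] theorem one_p : (1 : DW k).p = false := rfl
@[simp] theorem inv_x : g⁻¹.x = -cond g.p (sg g.f g.y) (sg g.e g.x) := rfl
@[simp] theorem inv_y : g⁻¹.y = -cond g.p (sg g.e g.x) (sg g.f g.y) := rfl
@[simp] theorem inv_e : g⁻¹.e = cond g.p g.f g.e := rfl
@[simp] theorem inv_f : g⁻¹.f = cond g.p g.e g.f := rfl
@[simp] theorem inv_p : g⁻¹.p = g.p := rfl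
end

instance : Group (DW k) where
  mul_assoc := by
    rintro ⟨_, _, _ | _, _ | _, _ | _⟩ ⟨_, _, _ | _, _ | _, _ | _⟩ c <;>
      ext <;> simp <;> ring
  one_mul := by rintro ⟨_, _, _, _, _⟩; ext <;> simp
  mul_one := by rintro ⟨_, _, _ | _, _ | _, _ | _⟩ <;> ext <;> simp
  inv_mul_cancel := by rintro ⟨_, _, _ | _, _ | _, _ | _⟩ <;> ext <;> simp

/-- Coordinates. -/
def equivProd : DW k ≃ R k × R k × Bool × Bool × Bool where
  toFun g := (g.x, g.y, g.e, g.f, g.p)
  invFun v := ⟨v.1, v.2.1, v.2.2.1, v.2.2.2.1, v.2.2.2.2⟩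
  left_inv _ := rfl
  right_inv _ := rfl

instance : Fintype (DW k) := Fintype.ofEquiv _ equivProd.symm

theorem card : Nat.card (DW k) = 2 ^ (2 * k + 7) := by
  rw [Nat.card_congr equivProd]
  simp only [Nat.card_prod, Nat.card_zmod, Nat.card_eq_fintype_card (α := Bool), Fintype.card_bool]
  ring

theorem isPGroup : IsPGroup 2 (DW k) := IsPGroup.of_card card

/-- Rotations. -/
@[simps] def ro (x y : R k) : DW k := ⟨x, y, false, false, false⟩
/-- Reflections of the first factor. -/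
@[simps] def s1 (i : R k) : DW k := ⟨i, 0, true, false, false⟩
/-- Reflections of the second factor. -/
@[simps] def s2 (i : R k) : DW k := ⟨0, i, false, true, false⟩
/-- Products of two reflections. -/
@[simps] def ss (i j : R k) : DW k := ⟨i, j, true, true, false⟩
/-- The centre of the first factor. -/
@[simps] def c1 (k : ℕ) : DW k := ⟨hf k, 0, false, false, false⟩
/-- The centre of the second factor. -/
@[simps] def c2 (k : ℕ) : DW k := ⟨0, hf k, false, false, false⟩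
/-- The central involution. -/
@[simps] def z (k : ℕ) : DW k := ⟨hf k, hf k, false, false, false⟩
/-- The swap. -/
@[simps] def ta (k : ℕ) : DW k := ⟨0, 0, false, false, true⟩

@[simp] theorem sg_zero (e : Bool) : sg e (0 : R k) = 0 := by cases e <;> simp

theorem hf_add : hf k + hf k = 0 := by linear_combination two_hf
theorem mm_add : mm k + mm k = hf k := by linear_combination two_mm

theorem c1_sq : c1 k * c1 k = 1 := by ext <;> simp [hf_add]
theorem c2_sq : c2 k * c2 k = 1 := by ext <;> simp [hf_add]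
theorem z_sq : z k * z k = 1 := by ext <;> simp [hf_add]
theorem ta_sq : ta k * ta k = 1 := by ext <;> simp
theorem s1_sq (i : R k) : s1 i * s1 i = 1 := by ext <;> simp
theorem s2_sq (i : R k) : s2 i * s2 i = 1 := by ext <;> simp
theorem ss_sq (i j : R k) : ss i j * ss i j = 1 := by ext <;> simp
theorem c1_ne : c1 k ≠ 1 := by simp [DW.ext_iff, hf_ne]
theorem c2_ne : c2 k ≠ 1 := by simp [DW.ext_iff, hf_ne]
theorem z_ne : z k ≠ 1 := by simp [DW.ext_iff, hf_ne]
theorem ta_ne : ta k ≠ 1 := by simp [DW.ext_iff]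
theorem s1_ne (i : R k) : s1 i ≠ 1 := by simp [DW.ext_iff]
theorem s2_ne (i : R k) : s2 i ≠ 1 := by simp [DW.ext_iff]
theorem ss_ne (i j : R k) : ss i j ≠ 1 := by simp [DW.ext_iff]
theorem c1_c2 : c1 k * c2 k = z k := by ext <;> simp
theorem c2_c1 : c2 k * c1 k = z k := by ext <;> simp
theorem c1_z : c1 k * z k = c2 k := by ext <;> simp [hf_add]
theorem c2_z : c2 k * z k = c1 k := by ext <;> simp [hf_add]
theorem z_c1 : z k * c1 k = c2 k := by ext <;> simp [hf_add]
theorem z_c2 : z k * c2 k = c1 k := by ext <;> simp [hf_add]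
theorem c1_ne_c2 : c1 k ≠ c2 k := by simp [DW.ext_iff, hf_ne]
theorem c1_ne_z : c1 k ≠ z k := by simp [DW.ext_iff, hf_ne.symm]
theorem c2_ne_z : c2 k ≠ z k := by simp [DW.ext_iff, hf_ne.symm]
theorem ta_inv : (ta k)⁻¹ = ta k := inv_eq_of_mul_eq_one_right ta_sq
theorem s1_s2 (i j : R k) : s1 i * s2 j = ss i j := by ext <;> simp
theorem s2_s1 (i j : R k) : s2 j * s1 i = ss i j := by ext <;> simp
theorem s1_c1 (i : R k) : s1 i * c1 k = s1 (i + hf k) := by ext <;> simp [neg_hf]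
theorem s2_c2 (i : R k) : s2 i * c2 k = s2 (i + hf k) := by ext <;> simp [neg_hf]
theorem ss_c1 (i j : R k) : ss i j * c1 k = ss (i + hf k) j := by ext <;> simp [neg_hf]
theorem ss_c2 (i j : R k) : ss i j * c2 k = ss i (j + hf k) := by ext <;> simp [neg_hf]

theorem z_comm (g : DW k) : g * z k = z k * g := by
  rcases g with ⟨x, y, _ | _, _ | _, _ | _⟩ <;> ext <;> simp [add_comm, neg_hf]

theorem conj_z (g : DW k) : g * z k * g⁻¹ = z k := by rw [z_comm, mul_inv_cancel_right]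

theorem top_le_cen_z : (⊤ : Subgroup (DW k)) ≤ Cen (z k) := fun g _ => mem_Cen.2 (z_comm g).symm

theorem eq_of_central {g : DW k} (h : ∀ t, t * g = g * t) : g = 1 ∨ g = z k := by
  have h1 := h (ro 1 1)
  have h2 := h (ta k)
  have h3 := h (s1 0)
  have := two_ne_zero' (k := k)
  rcases g with ⟨x, y, _ | _, _ | _, _ | _⟩ <;> simp [DW.ext_iff] at h1 h2 h3 ⊢
  · obtain rfl : y = x := h2.1
    rcases (two_eq_zero (x := y)).1 (by linear_combination -h3) with rfl | rfl <;> simp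
  · exact this (by linear_combination h1.1)

theorem injective_of_z {G : Type*} [Group G] (f : DW k →* G) (h : f (z k) ≠ 1) :
    Function.Injective f := by
  rw [← MonoidHom.ker_eq_bot_iff]
  by_contra hne
  have : Fact (Nat.Prime 2) := ⟨Nat.prime_two⟩
  have := (isPGroup (k := k)).isNilpotent
  obtain ⟨g, hg, hg1⟩ : ∃ g ∈ f.ker ⊓ Subgroup.center (DW k), g ≠ 1 := by
    by_contra hc
    push Not at hc
    exact GT.PG.inf_center_ne_bot _ hne ((Subgroup.eq_bot_iff_forall _).2 hc)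
  rcases eq_of_central (fun s => Subgroup.mem_center_iff.1 hg.2 s) with e | e
  exacts [hg1 e, h (e ▸ hg.1)]

/-! ### Subgroups -/

/-- The base group. -/
def T (k : ℕ) : Subgroup (DW k) where
  carrier := {g | g.p = false}
  one_mem' := rfl
  mul_mem' := by intro a b h1 h2; simp only [Set.mem_ofPred_eq] at *; simp [*]
  inv_mem' := by intro a h1; exact h1

/-- The first factor. -/
def D1 (k : ℕ) : Subgroup (DW k) where
  carrier := {g | g.y = 0 ∧ g.f = false ∧ g.p = false}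
  one_mem' := ⟨rfl, rfl, rfl⟩
  mul_mem' := by rintro a b ⟨h1, h2, h3⟩ ⟨h4, h5, h6⟩; simp [*]
  inv_mem' := by rintro a ⟨h1, h2, h3⟩; simp [*]

/-- The second factor. -/
def D2 (k : ℕ) : Subgroup (DW k) where
  carrier := {g | g.x = 0 ∧ g.e = false ∧ g.p = false}
  one_mem' := ⟨rfl, rfl, rfl⟩
  mul_mem' := by rintro a b ⟨h1, h2, h3⟩ ⟨h4, h5, h6⟩; simp [*]
  inv_mem' := by rintro a ⟨h1, h2, h3⟩; simp [*]

/-- The first factor times the rotations of the second. -/
def M1 (k : ℕ) : Subgroup (DW k) where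
  carrier := {g | g.f = false ∧ g.p = false}
  one_mem' := ⟨rfl, rfl⟩
  mul_mem' := by rintro a b ⟨h2, h3⟩ ⟨h5, h6⟩; simp [*]
  inv_mem' := by rintro a ⟨h2, h3⟩; simp [*]

/-- The subgroup `x + y` even. -/
def U (k : ℕ) : Subgroup (DW k) where
  carrier := {g | Ev (g.x + g.y)}
  one_mem' := by simp [Ev]
  mul_mem' := by
    rintro ⟨x, y, _ | _, _ | _, _ | _⟩ ⟨x', y', _, _, _⟩ h1 h2 <;> simp [Ev] at h1 h2 ⊢ <;>
      first
      | linear_combination h1 + h2
      | linear_combination h1 + h2 - x' * two_hf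
      | linear_combination h1 + h2 - y' * two_hf
      | linear_combination h1 - h2
  inv_mem' := by
    rintro ⟨x, y, _ | _, _ | _, _ | _⟩ h1 <;> simp [Ev] at h1 ⊢ <;>
      first
      | linear_combination h1
      | linear_combination -h1
      | linear_combination h1 - x * two_hf
      | linear_combination h1 - y * two_hf

section mem
variable {g : DW k}
@[simp] theorem mem_T : g ∈ T k ↔ g.p = false := Iff.rfl
@[simp] theorem mem_D1 : g ∈ D1 k ↔ g.y = 0 ∧ g.f = false ∧ g.p = false := Iff.rfl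
@[simp] theorem mem_D2 : g ∈ D2 k ↔ g.x = 0 ∧ g.e = false ∧ g.p = false := Iff.rfl
@[simp] theorem mem_M1 : g ∈ M1 k ↔ g.f = false ∧ g.p = false := Iff.rfl
@[simp] theorem mem_U : g ∈ U k ↔ Ev (g.x + g.y) := Iff.rfl
end mem

theorem D1_le : D1 k ≤ T k := fun _ h => h.2.2
theorem D2_le : D2 k ≤ T k := fun _ h => h.2.2
theorem M1_le : M1 k ≤ T k := fun _ h => h.2
theorem D1_le_M1 : D1 k ≤ M1 k := fun _ h => h.2

theorem D1_comm_D2 {a b : DW k} (ha : a ∈ D1 k) (hb : b ∈ D2 k) : a * b = b * a := by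
  obtain ⟨h1, h2, h3⟩ := ha
  obtain ⟨h4, h5, h6⟩ := hb
  ext <;> simp [*]

theorem exists_D {g : DW k} (h : g ∈ T k) : ∃ a ∈ D1 k, ∃ b ∈ D2 k, g = a * b :=
  ⟨⟨g.x, 0, g.e, false, false⟩, by simp, ⟨0, g.y, false, g.f, false⟩, by simp, by
    ext <;> simp [mem_T.1 h]⟩

theorem comm_c1 {g : DW k} : c1 k * g = g * c1 k ↔ g ∈ T k := by
  have := hf_ne (k := k)
  rcases g with ⟨x, y, _ | _, _ | _, _ | _⟩ <;> simp [DW.ext_iff, add_comm, neg_hf, this]

theorem comm_c2 {g : DW k} : c2 k * g = g * c2 k ↔ g ∈ T k := by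
  have := hf_ne (k := k)
  rcases g with ⟨x, y, _ | _, _ | _, _ | _⟩ <;> simp [DW.ext_iff, add_comm, neg_hf, this]

theorem T_le_cen_c1 : T k ≤ Cen (c1 k) := fun _ h => mem_Cen.2 (comm_c1.2 h)
theorem T_le_cen_c2 : T k ≤ Cen (c2 k) := fun _ h => mem_Cen.2 (comm_c2.2 h)

instance : (T k).Normal := ⟨by rintro n h g; simp [mem_T.1 h]⟩

theorem conj_D1 {g a : DW k} (hg : g ∈ T k) (ha : a ∈ D1 k) : g * a * g⁻¹ ∈ D1 k := by
  obtain ⟨h1, h2, h3⟩ := ha
  rcases g with ⟨x, y, _ | _, _ | _, _ | _⟩ <;> simp [*] at hg ⊢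

theorem ro_pow (x y : R k) (n : ℕ) : ro x y ^ n = ro ((n : R k) * x) ((n : R k) * y) := by
  induction n with
  | zero => ext <;> simp
  | succ n ih => rw [pow_succ, ih]; ext <;> simp <;> ring

theorem ro_mul_mem {P : Subgroup (DW k)} {x y : R k} (h : ro x y ∈ P) (a : R k) :
    ro (a * x) (a * y) ∈ P := by
  have := pow_mem h a.val
  rwa [ro_pow, ZMod.natCast_zmod_val] at this

theorem D1_le_of {P : Subgroup (DW k)} (h : ∀ i, s1 i ∈ P) : D1 k ≤ P := by
  rintro ⟨x, y, _ | _, f, p⟩ ⟨h1, h2, h3⟩ <;> simp only at h1 h2 h3 <;> subst h1 h2 h3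
  · convert mul_mem (h x) (h 0) using 1; ext <;> simp
  · exact h x

theorem D2_le_of {P : Subgroup (DW k)} (h : ∀ i, s2 i ∈ P) : D2 k ≤ P := by
  rintro ⟨x, y, e, _ | _, p⟩ ⟨h1, h2, h3⟩ <;> simp only at h1 h2 h3 <;> subst h1 h2 h3
  · convert mul_mem (h y) (h 0) using 1; ext <;> simp
  · exact h y

theorem T_le_of {P : Subgroup (DW k)} (h : ∀ i, s1 i ∈ P) (h' : ∀ i, s2 i ∈ P) : T k ≤ P :=
  fun g hg => by
    obtain ⟨a, ha, b, hb, rfl⟩ := exists_D hg
    exact mul_mem (D1_le_of h ha) (D2_le_of h' hb)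

theorem exists_mul_hf {x : R k} (h : x ≠ 0) : ∃ a, a * x = hf k := by
  have key : ∀ (n : ℕ) (x : R k), 2 ^ n * x = 0 → x ≠ 0 → ∃ a, a * x = hf k := fun n => by
    induction n with
    | zero => intro x e h; exact absurd (by simpa using e) h
    | succ n ih =>
      intro x e h
      by_cases h2 : 2 * x = 0
      · exact ⟨1, by rw [one_mul, (two_eq_zero.1 h2).resolve_left h]⟩
      · obtain ⟨a, ha⟩ := ih (2 * x) (by rw [← e]; ring) h2
        exact ⟨a * 2, by rw [← ha]; ring⟩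
  refine key (k + 2) x ?_ h
  rw [show (2 : R k) ^ (k + 2) = 2 * hf k from pow_succ' _ (k + 1), two_hf, zero_mul]

/-! ### Involutions -/

theorem sq_rot {g : DW k} (h : g ∈ T k) : (g * g).e = false ∧ (g * g).f = false ∧ (g * g).p = false := by
  simp [mem_T.1 h]

theorem rot_cases {g : DW k} (h : g.e = false ∧ g.f = false ∧ g.p = false) (h2 : g * g = 1) :
    g = 1 ∨ g = c1 k ∨ g = c2 k ∨ g = z k := by
  obtain ⟨x, y, _, _, _⟩ := g
  obtain ⟨rfl, rfl, rfl⟩ := h
  simp [DW.ext_iff, ← two_mul, two_eq_zero] at h2 ⊢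
  tauto

theorem T_cases {g : DW k} (h : g ∈ T k) (h2 : g * g = 1) :
    (g = 1 ∨ g = c1 k ∨ g = c2 k ∨ g = z k) ∨ (∃ i, g = s1 i ∨ g = s1 i * c2 k) ∨
      (∃ i, g = s2 i ∨ g = s2 i * c1 k) ∨ ∃ i j, g = ss i j := by
  rcases g with ⟨x, y, _ | _, _ | _, _ | _⟩ <;> simp at h
  · exact Or.inl (rot_cases ⟨rfl, rfl, rfl⟩ h2)
  · simp [DW.ext_iff, ← two_mul, two_eq_zero] at h2
    exact Or.inr (Or.inr (Or.inl ⟨y, h2.imp (fun e => by ext <;> simp [e]) fun e => by ext <;> simp [e]⟩))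
  · simp [DW.ext_iff, ← two_mul, two_eq_zero] at h2
    exact Or.inr (Or.inl ⟨x, h2.imp (fun e => by ext <;> simp [e]) fun e => by ext <;> simp [e]⟩)
  · exact Or.inr (Or.inr (Or.inr ⟨x, y, rfl⟩))

theorem D1_cases {g : DW k} (h : g ∈ D1 k) (h2 : g * g = 1) : g = 1 ∨ g = c1 k ∨ ∃ i, g = s1 i := by
  rcases g with ⟨x, y, _ | _, f, p⟩ <;> obtain ⟨h1, h3, h4⟩ := h <;> simp only at h1 h3 h4 <;>
    subst h1 h3 h4
  · simp [DW.ext_iff, ← two_mul, two_eq_zero] at h2 ⊢
    tauto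
  · exact Or.inr (Or.inr ⟨x, rfl⟩)

theorem M1_cases {g : DW k} (h : g ∈ M1 k) (h2 : g * g = 1) : g ∈ D1 k ∨ g * c2 k ∈ D1 k := by
  rcases g with ⟨x, y, e, f, p⟩
  obtain ⟨h3, h4⟩ := h
  simp only at h3 h4
  subst h3 h4
  simp [DW.ext_iff, ← two_mul, two_eq_zero] at h2 ⊢
  exact h2.2.imp_right fun e => by rw [e, hf_add]

theorem out_conj {g : DW k} (h : g ∉ T k) (h2 : g * g = 1) : ∃ t ∈ T k, t * g * t⁻¹ = ta k := by
  rcases g with ⟨x, y, _ | _, _ | _, _ | _⟩ <;> simp [DW.ext_iff] at h h2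
  · exact ⟨ro (-x) 0, rfl, by ext <;> simp; linear_combination h2.1⟩
  · exact ⟨s1 x, rfl, by ext <;> simp; linear_combination -h2.1⟩

theorem conj_s1 (i a : R k) : ro a 0 * s1 i * (ro a 0)⁻¹ = s1 (i + 2 * a) := by ext <;> simp; ring
theorem conj_s2 (i a : R k) : ro 0 a * s2 i * (ro 0 a)⁻¹ = s2 (i + 2 * a) := by ext <;> simp; ring
theorem conj_ss (i j a b : R k) : ro a b * ss i j * (ro a b)⁻¹ = ss (i + 2 * a) (j + 2 * b) := by
  ext <;> simp <;> ring

/-- An element of `T` with a non-trivial sign `f` is conjugate to its product with `c2`. -/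
theorem conj_c2 {g : DW k} (h : g ∈ T k) (hf' : g.f = true) :
    ro 0 (mm k) * g * (ro 0 (mm k))⁻¹ = g * c2 k := by
  rcases g with ⟨x, y, _ | _, _ | _, _ | _⟩ <;> simp at h hf' <;> ext <;> simp <;>
    linear_combination two_mm + two_hf

theorem sqrt_z_comm {a b : DW k} (ha : a ∈ T k) (hb : b ∈ T k) (h : a * a = z k) (h' : b * b = z k) :
    a * b = b * a := by
  have := hf_ne (k := k)
  rcases a with ⟨x, y, _ | _, _ | _, _ | _⟩ <;> simp [DW.ext_iff, this.symm] at ha h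
  rcases b with ⟨x', y', _ | _, _ | _, _ | _⟩ <;> simp [DW.ext_iff, this.symm] at hb h'
  ext <;> simp [add_comm]

/-- Four independent commuting involutions. -/
structure E16 {P : Type*} [Group P] (a b c d : P) : Prop where
  (aa : a * a = 1) (bb : b * b = 1) (cc : c * c = 1) (dd : d * d = 1)
  (ab : a * b = b * a) (ac : a * c = c * a) (ad : a * d = d * a)
  (bc : b * c = c * b) (bd : b * d = d * b) (cd : c * d = d * c)
  ind : ∀ i j l m : Bool, cond i a 1 * cond j b 1 * (cond l c 1 * cond m d 1) = 1 →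
    i = false ∧ j = false ∧ l = false ∧ m = false

theorem rank_D1 {b c d : DW k} (hb : b ∈ D1 k) (hc : c ∈ D1 k) (hd : d ∈ D1 k) (bb : b * b = 1)
    (cc : c * c = 1) (dd : d * d = 1) (bc : b * c = c * b) (bd : b * d = d * b) (cd : c * d = d * c) :
    ∃ j l m : Bool, cond j b 1 * (cond l c 1 * cond m d 1) = 1 ∧ ¬ (j = false ∧ l = false ∧ m = false) := by
  have key : ∀ i j : R k, s1 i * s1 j = s1 j * s1 i → j = i ∨ j = i + hf k := fun i j e => by
    simp [DW.ext_iff] at e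
    exact ((two_eq_zero (x := j - i)).1 (by linear_combination -e)).imp
      (fun e => by linear_combination e) fun e => by linear_combination e
  have n := @hf_add k
  have n' := @neg_hf k
  rcases D1_cases hb bb with rfl | hb
  · exact ⟨true, false, false, by simp⟩
  rcases D1_cases hc cc with rfl | hc
  · exact ⟨false, true, false, by simp⟩
  rcases D1_cases hd dd with rfl | hd
  · exact ⟨false, false, true, by simp⟩
  rcases hb with rfl | ⟨i, rfl⟩ <;> rcases hc with rfl | ⟨j, rfl⟩ <;> rcases hd with rfl | ⟨l, rfl⟩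
  · exact ⟨true, true, false, by simp [bb]⟩
  · exact ⟨true, true, false, by simp [bb]⟩
  · exact ⟨true, false, true, by simp [bb]⟩
  · rcases key _ _ cd with rfl | rfl
    exacts [⟨false, true, true, by simp [cc]⟩, ⟨true, true, true, by simp [DW.ext_iff, n', n]⟩]
  · exact ⟨false, true, true, by simp [cc]⟩
  · rcases key _ _ bd with rfl | rfl
    exacts [⟨true, false, true, by simp [bb]⟩,
      ⟨true, true, true, by simp [DW.ext_iff, n']; linear_combination n⟩]
  · rcases key _ _ bc with rfl | rfl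
    exacts [⟨true, true, false, by simp [bb]⟩,
      ⟨true, true, true, by simp [DW.ext_iff, n']; linear_combination n⟩]
  · rcases key _ _ bc with rfl | rfl
    · exact ⟨true, true, false, by simp [bb]⟩
    rcases key _ _ bd with rfl | rfl
    exacts [⟨true, false, true, by simp [bb]⟩, ⟨false, true, true, by simp [cc]⟩]

theorem comm_ta {g : DW k} : ta k * g = g * ta k ↔ g.y = g.x ∧ g.f = g.e := by
  rcases g with ⟨x, y, _ | _, _ | _, _ | _⟩ <;> simp [DW.ext_iff, eq_comm]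

theorem not_e16_ta {b c d : DW k} (h : E16 (ta k) b c d) : False := by
  let pr : Cen (ta k) →* DW k := MonoidHom.mk' (fun g => ⟨g.1.x, 0, g.1.e, false, false⟩) (by
    rintro ⟨g, hg⟩ ⟨⟨x, y, e, f, p⟩, hg'⟩
    obtain ⟨h1, h2⟩ := comm_ta.1 (mem_Cen.1 hg').eq
    simp only at h1 h2
    subst h1 h2
    ext <;> simp)
  have m : ∀ g, pr g ∈ D1 k := fun g => ⟨rfl, rfl, rfl⟩
  let b' : Cen (ta k) := ⟨b, mem_Cen.2 h.ab⟩
  let c' : Cen (ta k) := ⟨c, mem_Cen.2 h.ac⟩
  let d' : Cen (ta k) := ⟨d, mem_Cen.2 h.ad⟩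
  have s : ∀ u : Cen (ta k), u.1 * u.1 = 1 → pr u * pr u = 1 := fun u e => by
    rw [← map_mul, show u * u = 1 from Subtype.ext e, map_one]
  have t : ∀ u v : Cen (ta k), u.1 * v.1 = v.1 * u.1 → pr u * pr v = pr v * pr u := fun u v e => by
    rw [← map_mul, show u * v = v * u from Subtype.ext e, map_mul]
  obtain ⟨j, l, n, e, hn⟩ := rank_D1 (m b') (m c') (m d') (s _ h.bb) (s _ h.cc) (s _ h.dd)
    (t _ _ h.bc) (t _ _ h.bd) (t _ _ h.cd)
  obtain ⟨w, hw, e'⟩ : ∃ w : Cen (ta k), w.1 = cond j b 1 * (cond l c 1 * cond n d 1) ∧ pr w = 1 :=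
    ⟨cond j b' 1 * (cond l c' 1 * cond n d' 1), by cases j <;> cases l <;> cases n <;> rfl, by
      rw [← e, map_mul, map_mul]; cases j <;> cases l <;> cases n <;> simp⟩
  obtain ⟨h1, h2⟩ := comm_ta.1 (mem_Cen.1 w.2).eq
  have h3 : w.1.x = 0 := congrArg DW.x e'
  have h4 : w.1.e = false := congrArg DW.e e'
  refine hn (h.ind w.1.p j l n ?_).2
  rw [mul_assoc, ← hw]
  clear hw
  cases hp : w.1.p <;> ext <;> simp [*]

theorem E16.map {P P' : Type*} [Group P] [Group P'] {a b c d : P} (h : E16 a b c d) {B : Subgroup P}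
    {φ : P → P'} (hm : ∀ u ∈ B, ∀ v ∈ B, φ (u * v) = φ u * φ v) (hi : ∀ u ∈ B, φ u = 1 → u = 1)
    (ha : a ∈ B) (hb : b ∈ B) (hc : c ∈ B) (hd : d ∈ B) : E16 (φ a) (φ b) (φ c) (φ d) := by
  have o : φ 1 = 1 := by simpa using hm 1 (one_mem _) 1 (one_mem _)
  have s : ∀ u ∈ B, u * u = 1 → φ u * φ u = 1 := fun u hu e => by rw [← hm u hu u hu, e, o]
  have t : ∀ u ∈ B, ∀ v ∈ B, u * v = v * u → φ u * φ v = φ v * φ u := fun u hu v hv e => by
    rw [← hm u hu v hv, e, hm v hv u hu]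
  have c1 : ∀ (i : Bool), ∀ u ∈ B, cond i u 1 ∈ B := fun i u hu => by cases i; exacts [one_mem _, hu]
  have c2 : ∀ (i : Bool) (u : P), φ (cond i u 1) = cond i (φ u) 1 := fun i u => by cases i; exacts [o, rfl]
  refine ⟨s a ha h.aa, s b hb h.bb, s c hc h.cc, s d hd h.dd, t a ha b hb h.ab, t a ha c hc h.ac,
    t a ha d hd h.ad, t b hb c hc h.bc, t b hb d hd h.bd, t c hc d hd h.cd, fun i j l m e => ?_⟩
  refine h.ind i j l m (hi _ (mul_mem (mul_mem (c1 i a ha) (c1 j b hb)) (mul_mem (c1 l c hc) (c1 m d hd))) ?_)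
  rw [hm _ (mul_mem (c1 i a ha) (c1 j b hb)) _ (mul_mem (c1 l c hc) (c1 m d hd)), hm _ (c1 i a ha) _ (c1 j b hb),
    hm _ (c1 l c hc) _ (c1 m d hd), c2, c2, c2, c2, e]

/-- Elementary abelian subgroups of order 16 lie in the base group. -/
theorem E16.mem_T {a b c d : DW k} (h : E16 a b c d) : a ∈ T k := by
  by_contra n
  obtain ⟨t, -, e⟩ := out_conj n h.aa
  exact not_e16_ta (e ▸ h.map (B := ⊤) (φ := fun u => t * u * t⁻¹) (fun u _ v _ => conj_mul.symm)
    (fun u _ e => by simpa using e) trivial trivial trivial trivial)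

theorem e16_s1 (i j : R k) : E16 (s1 i) (c1 k) (c2 k) (s2 j) := by
  have := hf_ne (k := k)
  refine ⟨s1_sq i, c1_sq, c2_sq, s2_sq j, ?_, ?_, ?_, ?_, ?_, ?_, ?_⟩
  any_goals ext <;> simp [neg_hf, add_comm]
  rintro (_ | _) (_ | _) (_ | _) (_ | _) <;> simp [DW.ext_iff, this]

theorem E16.perm2 {P : Type*} [Group P] {a b c d : P} (h : E16 a b c d) : E16 b a c d :=
  ⟨h.bb, h.aa, h.cc, h.dd, h.ab.symm, h.bc, h.bd, h.ac, h.ad, h.cd, fun i j l m e => by
    have := h.ind j i l m (Eq.trans (by cases i <;> cases j <;> simp [h.ab]) e)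
    tauto⟩

theorem E16.perm3 {P : Type*} [Group P] {a b c d : P} (h : E16 a b c d) : E16 c d a b :=
  ⟨h.cc, h.dd, h.aa, h.bb, h.cd, h.ac.symm, h.bc.symm, h.ad.symm, h.bd.symm, h.ab, fun i j l m e => by
    have := h.ind l m i j (mul_eq_one_comm.1 e)
    tauto⟩

/-! ### Automorphisms, characters, the embedding of `PS k` -/

/-- Conjugation by the swap. -/
def sw (k : ℕ) : DW k →* DW k := MonoidHom.mk' (fun g => ⟨g.y, g.x, g.f, g.e, g.p⟩) (by
  rintro ⟨_, _, _, _, _ | _⟩ _ <;> ext <;> simp)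

section
variable (g : DW k)
@[simp] theorem sw_x : (sw k g).x = g.y := rfl
@[simp] theorem sw_y : (sw k g).y = g.x := rfl
@[simp] theorem sw_e : (sw k g).e = g.f := rfl
@[simp] theorem sw_f : (sw k g).f = g.e := rfl
@[simp] theorem sw_p : (sw k g).p = g.p := rfl
theorem sw_sw : sw k (sw k g) = g := rfl
theorem sw_eq : ta k * g * (ta k)⁻¹ = sw k g := by
  rcases g with ⟨_, _, _, _, _ | _⟩ <;> ext <;> simp
end

theorem sw_c1 : sw k (c1 k) = c2 k := rfl
theorem sw_c2 : sw k (c2 k) = c1 k := rfl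
theorem sw_z : sw k (z k) = z k := rfl
theorem sw_s1 (i : R k) : sw k (s1 i) = s2 i := rfl
theorem sw_s2 (i : R k) : sw k (s2 i) = s1 i := rfl
theorem sw_ss (i j : R k) : sw k (ss i j) = ss j i := rfl

/-- The central automorphisms: `u = 1` moves all reflections, `v = 1` the odd elements. -/
def al (u v : R k) : DW k →* DW k := MonoidHom.mk' (fun g =>
  ⟨g.x + hf k * (u * cond g.f 1 0 + v * g.y), g.y + hf k * (u * cond g.e 1 0 + v * g.x), g.e, g.f, g.p⟩) (by
  rintro ⟨x, y, _ | _, _ | _, _ | _⟩ ⟨x', y', _ | _, _ | _, _⟩ <;> ext <;> simp <;>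
    first
    | linear_combination
    | linear_combination (-u) * two_hf
    | linear_combination (v * x') * two_hf
    | linear_combination (v * y') * two_hf
    | linear_combination (-v * x') * two_hf
    | linear_combination (-v * y') * two_hf
    | linear_combination (u + v * x') * two_hf
    | linear_combination (u + v * y') * two_hf
    | linear_combination (-u - v * x') * two_hf
    | linear_combination (-u - v * y') * two_hf)

theorem al_c1 (u v : R k) : al u v (c1 k) = c1 k := by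
  have := @hf_hf k
  ext <;> simp [al]; linear_combination v * this
theorem al_c2 (u v : R k) : al u v (c2 k) = c2 k := by
  have := @hf_hf k
  ext <;> simp [al]; linear_combination v * this
theorem al_z (u v : R k) : al u v (z k) = z k := by rw [← c1_c2, map_mul, al_c1, al_c2]
theorem al_s1 (u v i : R k) : al u v (s1 i) = s1 i * ro 0 (hf k * (u + v * i)) := by ext <;> simp [al]

/-- The automorphism interchanging the two classes of reflections. -/
def ga (k : ℕ) : DW k →* DW k := MonoidHom.mk' (fun g =>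
  ⟨g.x + cond g.e 1 0 , g.y + cond g.f 1 0, g.e, g.f, g.p⟩) (by
  rintro ⟨x, y, _ | _, _ | _, _ | _⟩ ⟨x', y', _ | _, _ | _, _⟩ <;> ext <;> simp <;> ring)

theorem ga_c1 : ga k (c1 k) = c1 k := by ext <;> simp [ga]
theorem ga_c2 : ga k (c2 k) = c2 k := by ext <;> simp [ga]
theorem ga_z : ga k (z k) = z k := by ext <;> simp [ga]
theorem ga_ta : ga k (ta k) = ta k := by ext <;> simp [ga]
theorem ga_s1 (i : R k) : ga k (s1 i) = s1 (i + 1) := by ext <;> simp [ga]
theorem ga_ss (i j : R k) : ga k (ss i j) = ss (i + 1) (j + 1) := by ext <;> simp [ga]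

/-- The sign of a Boolean. -/
def sb (b : Bool) : ℤˣ := cond b (-1) 1

theorem sb_xor (a b : Bool) : sb (xor a b) = sb a * sb b := by cases a <;> cases b <;> simp [sb]
@[simp] theorem sb_eq_one {a : Bool} : sb a = 1 ↔ a = false := by cases a <;> simp [sb]

/-- The embedding of the Sylow 2-subgroup of `PSp₄(q)`. -/
def em (k : ℕ) : PS k →* DW k := MonoidHom.mk' (fun g => ⟨g.x, g.y, g.e, g.f, g.p⟩) fun _ _ => rfl

theorem em_inj : Function.Injective (em k) := fun a b e => by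
  simp only [em, MonoidHom.mk'_apply, DW.mk.injEq] at e
  exact PS.ext e.1 e.2.1 e.2.2.1 e.2.2.2.1 e.2.2.2.2

theorem range_em : (em k).range = U k := by
  ext g
  exact ⟨by rintro ⟨a, rfl⟩; exact a.ev, fun h => ⟨⟨g.x, g.y, g.e, g.f, g.p, h⟩, rfl⟩⟩

end DW

end Cfsg.Agent.L4A
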