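import Mathlib
import Cfsg.Agent.L4A.Model

/-!
Groups with Sylow 2-subgroup `DW k` and no subgroup of index two: the involutions `c1`, `z`, the
reflections, and the centralizer of `c2`.
-/

set_option autoImplicit false
set_option linter.unusedSectionVars false

namespace Cfsg.Agent.L4A

open Cfsg.Agent.G2T Cfsg.Agent.P4 Cfsg.Agent.Loc.Mss Cfsg.Agent.GW Subgroup DW

variable {k : ℕ} {G : Type*} [Group G] [Finite G] {ι : DW k →* G} {H : Subgroup G}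
  {A B : Subgroup (DW k)} {g : G} {φ : DW k → DW k}

theorem cj2 (a b x : G) : a * (b * x * b⁻¹) * a⁻¹ = a * b * x * (a * b)⁻¹ := by group

theorem fu_mul {P : Type*} [Group P] {ι : P →* G} {x y w : P} (f : Fu ι H x y) (h : H ≤ Cen (ι w)) :
    Fu ι H (x * w) (y * w) := by
  obtain ⟨g, hg, e⟩ := f
  exact ⟨g, hg, by rw [map_mul, map_mul, ← e, ← conj_mul, ← (mem_Cen.1 (h hg)).eq, mul_inv_cancel_right]⟩

theorem fu_sw {x y w : DW k} (f : Fu ι (Cen (ι w)) x y) :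
    Fu ι (Cen (ι (sw k w))) (sw k x) (sw k y) := by
  obtain ⟨g, hg, e⟩ := f
  simp only [← sw_eq, map_mul, map_inv]
  exact ⟨ι (ta k) * g * (ι (ta k))⁻¹, mem_Cen.2 ((mem_Cen.1 hg).conj _), by
    simp only [map_mul, map_inv]; rw [← e]; group⟩

theorem fu_sw_top (x : DW k) : Fu ι ⊤ x (sw k x) := Fu.of_top _ (sw_eq x)

theorem mp_e16 (m : Mp ι A H g B φ) {a b c d : DW k} (h : E16 a b c d) (ha : a ∈ B) (hb : b ∈ B)
    (hc : c ∈ B) (hd : d ∈ B) : E16 (φ a) (φ b) (φ c) (φ d) :=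
  h.map (fun _ hu _ hv => m.mul hu hv) (fun u hu e => by
    by_contra n
    exact m.ne_one hu n e) ha hb hc hd

theorem mp_refl (m : Mp ι A H g B φ) {i j : R k} (h1 : s1 i ∈ B) (h2 : s2 j ∈ B) (h3 : c1 k ∈ B)
    (h4 : c2 k ∈ B) : φ (s1 i) ∈ T k ∧ φ (s2 j) ∈ T k :=
  have e := mp_e16 m (e16_s1 i j) h1 h3 h4 h2
  ⟨e.mem_T, e.perm3.perm2.mem_T⟩

theorem mp_D2 (m : Mp ι A H g B φ) {i : R k} (h1 : s1 i ∈ B) (h3 : c1 k ∈ B) (h2 : D2 k ≤ B) {a : DW k}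
    (ha : a ∈ D2 k) : φ a ∈ T k := by
  obtain ⟨D, hD⟩ := m.sub (T k)
  exact (hD a (h2 ha)).1 (D2_le_of (fun j => (hD _ (h2 (by simp))).2
    (mp_refl m h1 (h2 (by simp)) h3 (h2 (by simp))).2) ha)

theorem mp_T (m : Mp ι A H g B φ) (h : T k ≤ B) {a : DW k} (ha : a ∈ T k) : φ a ∈ T k := by
  obtain ⟨D, hD⟩ := m.sub (T k)
  have e := fun i j => mp_refl m (i := i) (j := j) (h rfl) (h rfl) (h rfl) (h rfl)
  exact (hD a (h ha)).1 (T_le_of (fun j => (hD _ (h rfl)).2 (e j 0).1)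
    (fun j => (hD _ (h rfl)).2 (e 0 j).2) ha)

theorem s2_not_comm : s2 (0 : R k) * s2 1 ≠ s2 1 * s2 0 := fun e => by
  simp [DW.ext_iff] at e
  exact two_ne_zero' (k := k) (by linear_combination -e)

theorem not_c1_z (h : Sy ι ⊤ ⊤) : ¬ Fu ι ⊤ (c1 k) (z k) := fun f => by
  obtain ⟨g, φ, m, e⟩ := h.ext trivial top_le_cen_z f
  have hT : T k ≤ ⊤ ⊓ Cen (c1 k) := le_inf le_top T_le_cen_c1
  have key : ∀ j, ro (mm k) 0 * s2 j ∈ T k ∧ φ (ro (mm k) 0 * s2 j) * φ (ro (mm k) 0 * s2 j) = z k :=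
    fun j => ⟨by simp, by rw [m.sq (hT (by simp)) (b := c1 k) (by ext <;> simp [mm_add]), e]⟩
  have := (m.comm (hT (key 0).1) (hT (key 1).1)).1
    (sqrt_z_comm (mp_T m hT (key 0).1) (mp_T m hT (key 1).1) (key 0).2 (key 1).2)
  simp [DW.ext_iff] at this
  exact two_ne_zero' (k := k) (by linear_combination -this)

theorem fu_c2 : Fu ι ⊤ (c2 k) (c1 k) := fu_sw_top _

theorem not_cz (h : Sy ι ⊤ ⊤) {x : DW k} (f : Fu ι ⊤ x (c1 k)) (f' : Fu ι ⊤ x (z k)) : False :=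
  not_c1_z h (f.symm.trans f')

theorem mp_c2 (h : Sy ι ⊤ ⊤) (m : Mp ι A H g B φ) (h1 : ro 0 (mm k) ∈ B) (h2 : φ (ro 0 (mm k)) ∈ T k) :
    φ (c2 k) = c1 k ∨ φ (c2 k) = c2 k := by
  have e : ro 0 (mm k) * ro 0 (mm k) = c2 k := by ext <;> simp [mm_add]
  have hc : c2 k ∈ B := e ▸ mul_mem h1 h1
  rcases rot_cases (m.sq h1 e ▸ sq_rot h2) (m.sq_one hc c2_sq) with e' | e' | e' | e'
  exacts [absurd e' (m.ne_one hc c2_ne), Or.inl e', Or.inr e',
    (not_cz h fu_c2 (e' ▸ (m.fu hc).mono le_top)).elim]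

theorem syT (h : Sy ι ⊤ ⊤) : Sy ι (T k) (Cen (ι (c2 k))) := by
  have hle : (T k).map ι ≤ Cen (ι (c2 k)) := by
    rintro _ ⟨x, hx, rfl⟩
    exact mem_Cen.2 ((mem_Cen.1 (T_le_cen_c2 hx)).map ι)
  refine ⟨h.inj, Syl.of_maximal (h.pg le_top) hle fun P hP h1 h2 => ?_⟩
  obtain ⟨g, -, hg⟩ := h.syl.conj_le hP le_top
  obtain ⟨φ, m⟩ := exists_mp (A := ⊤) (H := ⊤) h.inj (mem_top g) ((cj_mono g h1).trans hg)
  have e := mp_c2 h m rfl (mp_T m le_rfl rfl)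
  have h3 : cj(g, P) ≤ (T k).map ι := cj_le_iff.2 fun x hx => by
    obtain ⟨y, -, hy⟩ := hg (conj_mem_cj hx)
    have c : φ (c2 k) * y = y * φ (c2 k) := h.inj (by
      rw [map_mul, map_mul, ← m.eq _ (show c2 k ∈ T k from rfl), hy]
      exact ((mem_Cen.1 (h2 hx)).conj g).eq)
    exact ⟨y, e.elim (fun e => comm_c1.1 (e ▸ c)) fun e => comm_c2.1 (e ▸ c), hy⟩
  exact (GT.PG.eq_of_le_of_card_le h1 ((card_cj P g).symm.trans_le (card_le_of_le h3))).ge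

theorem mem_T_iff (h : Sy ι ⊤ ⊤) {x : DW k} : ι x ∈ Cen (ι (c2 k)) ↔ x ∈ T k :=
  ⟨fun e => comm_c2.1 (h.inj (by simpa using (mem_Cen.1 e).eq)), (syT h).mem⟩

/-- Extremal conjugation to `c2`. -/
theorem ext_c2 (h : Sy ι ⊤ ⊤) {x : DW k} (f : Fu ι ⊤ x (c2 k)) :
    ∃ g φ, Mp ι (T k) ⊤ g (⊤ ⊓ Cen x) φ ∧ φ x = c2 k := by
  obtain ⟨g, -, e⟩ := f
  obtain ⟨c, hc, hcY⟩ := (syT h).syl.conj_le (pg_cj (h.pg (B := ⊤ ⊓ Cen x) le_top) g)
    ((h.cj_cen_le (mem_top g) e).trans inf_le_right)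
  obtain ⟨φ, m⟩ := exists_mp (A := T k) (H := ⊤) h.inj (mem_top (c * g)) (B := ⊤ ⊓ Cen x)
    (by rw [← cj_cj]; exact hcY)
  refine ⟨_, φ, m, h.inj ?_⟩
  rw [← m.eq x (self_cenA trivial)]
  calc c * g * ι x * (c * g)⁻¹ = c * (g * ι x * g⁻¹) * c⁻¹ := by group
    _ = _ := by rw [e, ← (mem_Cen.1 hc).eq, mul_inv_cancel_right]

theorem comm_of_ss {a b : DW k} {i j : R k} (ha : a ∈ T k) (hb : b ∈ T k) (h : ss i j * a = a * ss i j)
    (h' : ss i j * b = b * ss i j) : a * b = b * a := by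
  rcases a with ⟨x, y, _ | _, _ | _, _ | _⟩ <;> simp [DW.ext_iff] at ha h <;>
  rcases b with ⟨x', y', _ | _, _ | _, _ | _⟩ <;> simp [DW.ext_iff] at hb h' <;>
  refine DW.ext ?_ ?_ rfl rfl rfl <;> simp <;>
  first
  | linear_combination
  | linear_combination h.1
  | linear_combination h.2
  | linear_combination h'.1
  | linear_combination h'.2
  | linear_combination -h.1
  | linear_combination -h.2
  | linear_combination -h'.1
  | linear_combination -h'.2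
  | linear_combination h.1 - h'.1
  | linear_combination h.2 - h'.2
  | linear_combination h'.1 - h.1
  | linear_combination h'.2 - h.2

theorem D2_le_cen (i : R k) : D2 k ≤ ⊤ ⊓ Cen (s1 i) := fun _ h =>
  mem_cenT.2 (D1_comm_D2 (by simp) h)

theorem c1_mem_cen (i : R k) : c1 k ∈ ⊤ ⊓ Cen (s1 i) := mem_cenT.2 (comm_c1.2 rfl).symm

theorem refl_cases (h : Sy ι ⊤ ⊤) (hr : ∀ g : G, g ∈ pResidualOf 2 ⊤) (i : R k) :
    Fu ι (Cen (ι (c2 k))) (s1 i) (c1 k) ∨ Fu ι (Cen (ι (c2 k))) (s1 i) (z k) := by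
  obtain ⟨g, φ, m, e⟩ := h.thompson Sy.units_pg Sy.units_uniq (fun g => sb (xor g.e (xor g.f g.p)))
    (by rintro ⟨_, _, _ | _, _ | _, _ | _⟩ - ⟨_, _, _ | _, _ | _, _ | _⟩ - <;> simp [sb])
    (mem_top (s1 i)) (s1_sq i) (hr _)
  have hs : s1 i ∈ ⊤ ⊓ Cen (s1 i) := self_cenA trivial
  have hD := fun a => mp_D2 m hs (c1_mem_cen i) (D2_le_cen i) (a := a)
  have hc : c2 k ∈ ⊤ ⊓ Cen (s1 i) := D2_le_cen i (by simp)
  have h1 : φ (s1 i) = c1 k ∨ φ (s1 i) = c2 k ∨ φ (s1 i) = z k := by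
    rcases T_cases (mp_refl m (j := 0) hs (D2_le_cen i (by simp)) (c1_mem_cen i) hc).1
      (m.sq_one hs (s1_sq i)) with e' | ⟨j, e' | e'⟩ | ⟨j, e' | e'⟩ | ⟨j, l, e'⟩
    · exact e'.resolve_left (m.ne_one hs (s1_ne i))
    any_goals simp [e'] at e
    have c : ∀ j, ss _ _ * φ (s2 j) = φ (s2 j) * ss _ _ := fun j => e' ▸
      (m.comm hs (D2_le_cen i (by simp))).2 ((s1_s2 i j).trans (s2_s1 i j).symm)
    exact absurd ((m.comm (D2_le_cen i (by simp)) (D2_le_cen i (by simp))).1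
      (comm_of_ss (hD _ (by simp)) (hD _ (by simp)) (c 0) (c 1))) s2_not_comm
  have n : φ (s1 i) ≠ φ (c2 k) := fun e => by simpa [DW.ext_iff] using m.inj' hs hc e
  rcases mp_c2 h m (D2_le_cen i (by simp)) (hD _ (by simp)) with e2 | e2
  · have f : Fu ι (Cen (ι (c2 k))) (s1 i) (sw k (φ (s1 i))) :=
      ⟨ι (ta k) * g, mem_Cen.2 (mul_inv_eq_iff_eq_mul.1 (by
        rw [← cj2, m.eq _ hc, e2, ← map_inv, ← map_mul, ← map_mul, sw_eq, sw_c1])).symm, by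
        rw [← cj2, m.eq _ hs, ← map_inv, ← map_mul, ← map_mul, sw_eq]⟩
    rcases h1 with e1 | e1 | e1
    exacts [absurd (e1.trans e2.symm) n, Or.inl (by rwa [e1] at f), Or.inr (by rwa [e1] at f)]
  · have f := (m.mono_right (m.mem_cen hc e2)).fu hs
    rcases h1 with e1 | e1 | e1
    exacts [Or.inl (e1 ▸ f), absurd (e1.trans e2.symm) n, Or.inr (e1 ▸ f)]

theorem exists_res {P : Type*} [Group P] {ι : P →* G} {A : Subgroup P} (h : Sy ι A H) (hg : g ∈ H) :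
    ∃ t ∈ A, ∃ r ∈ pResidualOf 2 H, g = ι t * r := by
  obtain ⟨_, ⟨t, ht, rfl⟩, r, hr, rfl⟩ := (mem_sup_norm' (h.syl.le.trans (le_norm_res (p := 2) H))).1
    ((h.syl.res_sup.ge.trans (sup_comm _ _).le) hg)
  exact ⟨t, ht, r, hr, rfl⟩

theorem sy_comp (h : Sy ι ⊤ ⊤) (α : DW k →* DW k) (hz : α (z k) = z k) : Sy (ι.comp α) ⊤ ⊤ := by
  have hi := injective_of_z α (hz.symm ▸ z_ne)
  refine ⟨h.inj.comp hi, ?_⟩
  rw [← map_map, map_top_of_surjective _ (Finite.surjective_of_injective hi)]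
  exact h.syl

/-- The normalized configuration: reflections are conjugate to `c1` in `C(c2)`. -/
structure Nrm (ι : DW k →* G) : Prop where
  sy : Sy ι ⊤ ⊤
  res : ∀ g : G, g ∈ pResidualOf 2 ⊤
  fs : ∀ i, Fu ι (Cen (ι (c2 k))) (s1 i) (c1 k)

theorem par_cases (i : R k) : ∃ a, i = 0 + 2 * a ∨ i = 1 + 2 * a := by
  by_cases h : Ev i
  · obtain ⟨a, e⟩ := ev_iff.1 h
    exact ⟨a, Or.inl (by rw [e, zero_add])⟩
  · obtain ⟨a, e⟩ := not_ev_iff.1 h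
    exact ⟨a, Or.inr (by rw [e, add_comm])⟩

theorem exists_nrm (h : Sy ι ⊤ ⊤) (hr : ∀ g : G, g ∈ pResidualOf 2 ⊤) :
    ∃ ι' : DW k →* G, Nrm ι' ∧ ι'.range = ι.range := by
  have key : ∀ i, ∃ w, Fu ι (Cen (ι (c2 k))) (s1 i * ro 0 (hf k * w)) (c1 k) := fun i =>
    (refl_cases h hr i).elim (fun f => ⟨0, by rwa [mul_zero, show ro 0 0 = 1 from rfl, mul_one]⟩)
      fun f => ⟨1, by rw [mul_one, ← z_c2]; exact fu_mul f le_rfl⟩
  obtain ⟨u, hu⟩ := key 0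
  obtain ⟨v, hv⟩ := key 1
  have h' := sy_comp h (al u (v - u)) (al_z _ _)
  refine ⟨_, ⟨h', hr, fun i => ?_⟩, ?_⟩
  · have h0 : Fu (ι.comp (al u (v - u))) (Cen (ι.comp (al u (v - u)) (c2 k))) (s1 0) (c1 k) := by
      change Fu ι (Cen (ι (al _ _ _))) (al _ _ _) (al _ _ _)
      rwa [al_c1, al_c2, al_s1, mul_zero, add_zero]
    have h1 : Fu (ι.comp (al u (v - u))) (Cen (ι.comp (al u (v - u)) (c2 k))) (s1 1) (c1 k) := by
      change Fu ι (Cen (ι (al _ _ _))) (al _ _ _) (al _ _ _)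
      rwa [al_c1, al_c2, al_s1, mul_one, add_sub_cancel]
    obtain ⟨a, rfl | rfl⟩ := par_cases i
    exacts [(Fu.of_conj _ ((syT h').mem rfl) (conj_s1 _ a)).symm.trans h0,
      (Fu.of_conj _ ((syT h').mem rfl) (conj_s1 _ a)).symm.trans h1]
  · rw [MonoidHom.range_comp, MonoidHom.range_eq_top.2 (Finite.surjective_of_injective
      (injective_of_z _ (by rw [al_z]; exact z_ne))), MonoidHom.range_eq_map]

namespace Nrm

variable (h : Nrm ι)
include h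

theorem symm : Nrm (ι.comp (sw k)) := ⟨sy_comp h.sy _ sw_z, h.res, fun i => fu_sw (h.fs i)⟩

theorem ga : Nrm (ι.comp (ga k)) := ⟨sy_comp h.sy _ ga_z, h.res, fun i => by
  change Fu ι (Cen (ι (DW.ga k _))) (DW.ga k _) (DW.ga k _)
  rw [ga_c1, ga_c2, ga_s1]
  exact h.fs _⟩

theorem dc {u : DW k} (hu : u ∈ D1 k) (u2 : u * u = 1) (u1 : u ≠ 1) :
    Fu ι (Cen (ι (c2 k))) u (c1 k) := by
  rcases (D1_cases hu u2).resolve_left u1 with rfl | ⟨i, rfl⟩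
  exacts [Fu.refl _, h.fs i]

theorem dz {u : DW k} (hu : u ∈ D1 k) (u2 : u * u = 1) (u1 : u ≠ 1) :
    Fu ι (Cen (ι (c2 k))) (u * c2 k) (z k) := c1_c2 (k := k) ▸ fu_mul (h.dc hu u2 u1) le_rfl

theorem s1c (i : R k) : Fu ι ⊤ (s1 i) (c1 k) := (h.fs i).mono le_top
theorem s2c (i : R k) : Fu ι ⊤ (s2 i) (c1 k) := (fu_sw_top _).trans (h.s1c i)
theorem s1z (i : R k) : Fu ι ⊤ (s1 i * c2 k) (z k) := (h.dz (by simp) (s1_sq i) (s1_ne i)).mono le_top
theorem s2z (i : R k) : Fu ι ⊤ (s2 i * c1 k) (z k) :=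
  (fu_sw_top _).trans (by rw [map_mul]; exact h.s1z i)

theorem mem_D1 {u e : DW k} (hu : u ∈ D1 k) (u2 : u * u = 1) (he : e ∈ T k)
    (f : Fu ι (Cen (ι (c2 k))) u e) : e ∈ D1 k := by
  by_cases u1 : u = 1
  · rw [u1] at f
    rw [f.symm.eq_one h.sy.inj]; exact one_mem _
  have f1 := (f.symm.trans (h.dc hu u2 u1)).mono le_top
  have f2 := ((fu_mul f le_rfl).symm.trans (h.dz hu u2 u1)).mono le_top
  have e2 := f.symm.sq_eq_one h.sy.inj u2
  cases hf' : e.f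
  · refine (M1_cases ⟨hf', he⟩ e2).resolve_right fun e' => not_cz h.sy ((h.dc e' ?_ ?_).mono le_top) f2
    exacts [f2.sq_eq_one h.sy.inj z_sq, f2.symm.ne_one h.sy.inj z_ne]
  · exact (not_cz h.sy f1 ((Fu.of_top _ (conj_c2 he hf')).trans f2)).elim

theorem res_iff {x : DW k} (hx : x ∈ T k) : ι x ∈ pResidualOf 2 (Cen (ι (c2 k))) ↔ x ∈ D1 k := by
  have sT := syT h.sy
  have pw : ∀ {u : DW k}, u ∈ D1 k → u * u = 1 → ∀ n : ℕ, u ^ n ∈ D1 k ∧ u ^ n * u ^ n = 1 :=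
    fun hu u2 n => ⟨pow_mem hu n, by rw [← (Commute.refl _).mul_pow, u2, one_pow]⟩
  refine ⟨fun hr => ?_, fun hD => ?_⟩
  · obtain ⟨H0, h1, h2, h3, h4, h5, h6⟩ := sT.exists_half (fun g => sb g.f) (fun a ha b _ => by
      simp [mem_T.1 ha, sb_xor])
    have n : ∀ j, ι (s2 j) ∉ H0 := fun j e => by
      obtain ⟨g, φ, m, e⟩ := h5 _ rfl (s2_sq j) e
      have hs : s2 j ∈ T k ⊓ Cen (s2 j) := self_cenA rfl
      have f := m.fu hs
      have f' : Fu ι (Cen (ι (c2 k))) (s2 j) (φ (s2 j) * c2 k) :=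
        (Fu.of_conj _ (sT.mem rfl) (conj_c2 rfl rfl)).trans (fu_mul f le_rfl)
      have key : ∀ w ∈ D1 k, Fu ι (Cen (ι (c2 k))) w (s2 j) → False := fun w hw f => by
        simpa using (h.mem_D1 hw (f.sq_eq_one h.sy.inj (s2_sq j)) rfl f).2.1
      exact (M1_cases ⟨sb_eq_one.1 e, m.mem _ hs⟩ (m.sq_one hs (s2_sq j))).elim
        (fun e => key _ e f.symm) fun e => key _ e f'.symm
    have d1 : D1 k ≤ H0.comap ι := D1_le_of fun i => h6 _ rfl fun n e he f =>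
      sb_eq_one.2 (h.mem_D1 (pw (by simp) (s1_sq i) n).1 (pw (by simp) (s1_sq i) n).2 he f).2.1
    have hm : ∀ a ∈ T k, ι a ∈ H0 ↔ a ∈ M1 k := fun a ha => by
      obtain ⟨b, hb, ⟨x, y, e, _ | _, p⟩, ⟨c1, c2, c3⟩, rfl⟩ := exists_D ha <;>
        simp only at c1 c2 c3 <;> subst c1 c2 c3 <;> rw [map_mul, H0.mul_mem_cancel_left (d1 hb)]
      · refine iff_of_true ?_ (by simp [hb.2.1, hb.2.2])
        convert h4 _ (sT.mem (a := s2 y) rfl) _ (sT.mem (a := s2 0) rfl) (n y) (n 0) using 1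
        rw [← map_mul]; congr 1; ext <;> simp
      · exact iff_of_false (n y) (by simp [hb.2.1, hb.2.2])
    have s0 := sT.sub M1_le h1 h2 hm
    obtain ⟨V, v1, v2⟩ := s0.exists_transfer (M := Multiplicative (R k)) (fun a b ha hb a1 b1 => by
      have : ∀ a : Multiplicative (R k), a ^ 2 = 1 → a ≠ 1 → a.toAdd = hf k := fun a ha a1 =>
        (two_eq_zero.1 (by simpa using congrArg Multiplicative.toAdd ha)).resolve_left a1
      exact Multiplicative.toAdd.injective ((this a ha a1).trans (this b hb b1).symm))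
      (fun g => Multiplicative.ofAdd g.y) (fun a ha b _ => by simp [ha.1, ha.2])
    have hp : IsPGroup 2 (Multiplicative (R k)) :=
      IsPGroup.of_card (n := k + 1 + 1) (by rw [Nat.card_congr Multiplicative.toAdd, Nat.card_zmod])
    let K : Subgroup (DW k) := (V.ker.map H0.subtype).comap ι
    have mK : ∀ a (ha : a ∈ M1 k), a ∈ K ↔ V ⟨ι a, s0.mem ha⟩ = 1 := fun a ha =>
      ⟨fun ⟨y, hy, e⟩ => by rwa [show (⟨ι a, _⟩ : H0) = y from Subtype.ext e.symm],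
        fun e => ⟨_, e, rfl⟩⟩
    have d2 : D1 k ≤ K := D1_le_of fun i => (mK _ (by simp)).2 (v2 _ (by simp) fun n e he f => by
      rw [(h.mem_D1 (pw (by simp) (s1_sq i) n).1 (pw (by simp) (s1_sq i) n).2 he.2 (f.mono h1)).1]
      rfl)
    have n2 : c2 k ∉ K := fun e => by
      obtain ⟨g, φ, m, e⟩ := v1 _ (by simp) c2_sq ((mK _ (by simp)).1 e)
      rw [(m.fu (self_cenA (by simp))).eq_of_cen h.sy.inj h1] at e
      exact hf_ne (k := k) e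
    have xM := (hm x hx).1 (h3 hr)
    have xK := (mK x xM).2 (Sy.hom_res hp V (res_le_res h3 hr))
    obtain ⟨b, hb, c, hc, rfl⟩ := exists_D hx
    rw [K.mul_mem_cancel_left (d2 hb)] at xK
    have cf : c.f = false := by simpa [hb.2.1, hb.2.2] using xM.1
    refine mul_mem hb ⟨?_, cf, hc.2.2⟩
    by_contra n0
    obtain ⟨a, ha⟩ := exists_mul_hf n0
    have e : c = ro 0 c.y := by ext <;> simp [hc.1, hc.2.1, hc.2.2, cf]
    rw [e] at xK
    have := ro_mul_mem xK a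
    rw [mul_zero, ha] at this
    exact n2 this
  · refine D1_le_of (P := (pResidualOf 2 (Cen (ι (c2 k)))).comap ι) (fun i => ?_) hD
    obtain ⟨g, hg, e⟩ := h.fs (i + hf k)
    have hn := le_norm_res (p := 2) (Cen (ι (c2 k)))
    obtain ⟨t, ht, r, hr, rfl⟩ := exists_res sT hg
    have e1 : r * ι (s1 (i + hf k)) * r⁻¹ = ι (c1 k) := by
      have c := (mem_Cen.1 (T_le_cen_c1 (inv_mem ht))).map ι
      rw [← mul_inv_cancel_right (ι (c1 k)) (ι t⁻¹), c.eq, ← e, map_inv]; group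
    have e2 : s1 i = c1 k * (s1 (i + hf k))⁻¹ := by
      ext <;> simp; linear_combination -two_hf
    rw [mem_comap, e2, map_mul, ← e1, map_inv, mul_assoc r, mul_assoc r]
    exact mul_mem hr ((mem_normalizer_iff.1 (hn (sT.mem rfl)) _).1 (inv_mem hr))

/-- `O²(C(c2))` has Sylow 2-subgroup `D1`. -/
theorem syD1 : Sy ι (D1 k) (pResidualOf 2 (Cen (ι (c2 k)))) :=
  (syT h.sy).sub D1_le (res_le _) (le_norm_res _) fun _ ha => h.res_iff ha

end Nrm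

end Cfsg.Agent.L4A
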