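import Mathlib
import Cfsg.Agent.L4A.FusA

/-!
Groups with Sylow 2-subgroup `DW k` and no subgroup of index two: the fusion of the products of two
reflections and of the swap; the two fusion patterns.
-/

set_option autoImplicit false
set_option linter.unusedSectionVars false

namespace Cfsg.Agent.L4A

open Cfsg.Agent.G2T Cfsg.Agent.P4 Cfsg.Agent.Loc.Mss Cfsg.Agent.GW Subgroup DW

variable {k : ℕ} {G : Type*} [Group G] [Finite G] {ι : DW k →* G} {H : Subgroup G}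
  {A B : Subgroup (DW k)} {g : G} {φ : DW k → DW k}

theorem ev_add {a b : R k} (h : Ev a) (h' : Ev b) : Ev (a + b) := by
  unfold Ev at *; linear_combination h + h'

theorem add_hf_hf (i : R k) : i + hf k + hf k = i := by linear_combination two_hf

theorem ev_or {a b : R k} (h : ¬ Ev a) (h' : ¬ Ev b) : Ev (a + b) := by
  obtain ⟨x, rfl⟩ := not_ev_iff.1 h
  obtain ⟨y, rfl⟩ := not_ev_iff.1 h'
  exact ev_iff.2 ⟨x + y + 1, by ring⟩

theorem fu_ss (hT : ∀ t ∈ T k, ι t ∈ H) {i j i' j' : R k} (h : Ev (i - i')) (h' : Ev (j - j')) :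
    Fu ι H (ss i j) (ss i' j') := by
  obtain ⟨a, ha⟩ := ev_iff.1 h
  obtain ⟨b, hb⟩ := ev_iff.1 h'
  exact (Fu.of_conj (ro a b) (hT _ rfl) (by
    rw [conj_ss]; congr 1; exacts [by linear_combination -ha, by linear_combination -hb])).symm

theorem fu_ss_top {i j i' j' : R k} (h : Ev (i - i')) (h' : Ev (j - j')) :
    Fu ι ⊤ (ss i j) (ss i' j') := fu_ss (fun _ _ => mem_top _) h h'

theorem ev_zero : Ev (0 : R k) := mul_zero _

theorem fu_out {x : DW k} (h : x ∉ T k) (h2 : x * x = 1) : Fu ι ⊤ x (ta k) := by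
  obtain ⟨t, -, e⟩ := out_conj h h2
  exact Fu.of_top t e

theorem par_of_conj {t : DW k} (ht : t ∈ T k) {i j : R k} (e : t * s1 i * t⁻¹ = s1 j) : Ev (i - j) := by
  rcases t with ⟨x, y, _ | _, f, _ | _⟩ <;> simp [DW.ext_iff] at ht e
  · exact ev_iff.2 ⟨-x, by linear_combination e.1⟩
  · exact ev_iff.2 ⟨i - x, by linear_combination e.1⟩

theorem cen_s1 {v : DW k} (hv : v ∈ D1 k) {i : R k} (e : s1 i * v = v * s1 i) :
    v = 1 ∨ v = c1 k ∨ v = s1 i ∨ v = s1 (i + hf k) := by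
  rcases v with ⟨x, y, _ | _, f, p⟩ <;> obtain ⟨h1, h3, h4⟩ := hv <;> simp only at h1 h3 h4 <;>
    subst h1 h3 h4 <;> simp [DW.ext_iff] at e ⊢
  · exact two_eq_zero.1 (by linear_combination -e)
  · exact ((two_eq_zero (x := x - i)).1 (by linear_combination -e)).imp
      (fun e => by linear_combination e) fun e => by linear_combination e

theorem sq_T {g : DW k} (h : g ∈ T k) : g * g = ro (g.x + sg g.e g.x) (g.y + sg g.f g.y) := by
  ext <;> simp [mem_T.1 h]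

theorem pow_eq_z {a b : DW k} (ha : a ∈ T k) (hb : b ∈ T k) (aa : a * a = 1) (bb : b * b = 1)
    (h : (a * b) ^ 2 ^ (k + 1) = z k) :
    ∃ x y x' y', a = ss x y ∧ b = ss x' y' ∧ ¬ Ev (x - x') ∧ ¬ Ev (y - y') := by
  rw [pow_succ', pow_mul, sq, sq_T (mul_mem ha hb), ro_pow, PS.cast_mm] at h
  have n := hf_ne (k := k)
  have key : ∀ u v : R k, 2 * u = 0 → 2 * v = 0 → mm k * (u + v + (u + v)) ≠ hf k := fun u v hu hv e =>
    n (by linear_combination mm k * hu + mm k * hv - e)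
  rcases a with ⟨x, y, _ | _, _ | _, _ | _⟩ <;> simp [DW.ext_iff, ← two_mul] at ha aa <;>
  rcases b with ⟨x', y', _ | _, _ | _, _ | _⟩ <;> simp [DW.ext_iff, ← two_mul] at hb bb <;>
  simp [DW.ext_iff, n.symm] at h
  · exact absurd h.1 (key _ _ aa.1 bb.1)
  · exact absurd h.1 (key _ _ aa bb)
  · exact absurd h.2 (key _ _ aa bb)
  · exact ⟨x, y, x', y', rfl, rfl, fun e => n (by unfold Ev at e; linear_combination e - h.1 + (x - x') * two_mm),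
      fun e => n (by unfold Ev at e; linear_combination e - h.2 + (y - y') * two_mm)⟩

/-- An element of `O²(C(c2))` permuting the involutions of `⟨s1 i, c1⟩` cyclically. -/
structure Th (ι : DW k →* G) (i : R k) (g : G) (φ : DW k → DW k) : Prop where
  mp : Mp ι (T k) (pResidualOf 2 (Cen (ι (c2 k)))) g (T k ⊓ Cen (s1 i)) φ
  hs : φ (s1 i) = c1 k
  hc : φ (c1 k) = s1 (i + hf k)
  hd : φ (c2 k) = c2 k
  hx : ∀ j, φ (s2 j) = s2 j ∨ φ (s2 j) = ss i j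

theorem s1_mem (i : R k) : s1 i ∈ T k ⊓ Cen (s1 i) := self_cenA rfl
theorem c1_mem (i : R k) : c1 k ∈ T k ⊓ Cen (s1 i) := ⟨rfl, (c1_mem_cen i).2⟩
theorem D2_le_cen' (i : R k) : D2 k ≤ T k ⊓ Cen (s1 i) := fun _ h => ⟨h.2.2, (D2_le_cen i h).2⟩

theorem mp_conj (m : Mp ι A H g B φ) {H' : Subgroup G} {t : DW k} (ht : t ∈ A) {g' : G} (hg : g' ∈ H')
    (e : g' = ι t * g) : Mp ι A H' g' B fun x => t * φ x * t⁻¹ :=
  ⟨m.inj, hg, fun c hc => by rw [e, ← cj2, m.eq c hc]; simp,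
    fun c hc => mul_mem (mul_mem ht (m.mem c hc)) (inv_mem ht)⟩

/-- Conjugation by `g` maps `ι x` to `ι y`. -/
def Cj (ι : DW k →* G) (g : G) (x y : DW k) : Prop := g * ι x * g⁻¹ = ι y

theorem Cj.mul {x y x' y' u v : DW k} (h : Cj ι g x y) (h' : Cj ι g x' y') (e : x * x' = u)
    (e' : y * y' = v) : Cj ι g u v := by
  unfold Cj at *; rw [← e, ← e', map_mul, map_mul, ← h, ← h', conj_mul]

theorem Cj.trans {g' : G} {x y w : DW k} (h : Cj ι g x y) (h' : Cj ι g' y w) : Cj ι (g' * g) x w := by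
  unfold Cj at *; rw [← cj2, h, h']

theorem Cj.symm {x y : DW k} (h : Cj ι g x y) : Cj ι g⁻¹ y x := by
  unfold Cj at *; rw [← h]; group

theorem Cj.of (t : DW k) {x y : DW k} (e : t * x * t⁻¹ = y) : Cj ι (ι t) x y := by
  unfold Cj; rw [← e]; simp

theorem Cj.cen {x : DW k} (h : Cj ι g x x) : g ∈ Cen (ι x) :=
  mem_Cen.2 (mul_inv_eq_iff_eq_mul.1 h).symm

theorem Cj.fu {x y : DW k} (h : Cj ι g x y) : Fu ι ⊤ x y := ⟨g, trivial, h⟩

theorem cj_of_cen {x : DW k} (h : g ∈ Cen (ι x)) : Cj ι g x x := by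
  unfold Cj; rw [← (mem_Cen.1 h).eq, mul_inv_cancel_right]

namespace Nrm

variable (h : Nrm ι)
include h

theorem res_iff' {x : DW k} (hx : x ∈ T k) : ι x ∈ pResidualOf 2 (Cen (ι (c1 k))) ↔ x ∈ D2 k :=
  (h.symm.res_iff (x := sw k x) hx).trans Iff.rfl

theorem syT' : Sy ι (T k) (Cen (ι (c1 k))) :=
  ⟨h.sy.inj, by
    have := (syT h.symm.sy).syl
    rwa [← map_map, show (T k).map (sw k) = T k from le_antisymm (by rintro _ ⟨x, hx, rfl⟩; exact hx)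
      fun x hx => ⟨sw k x, hx, rfl⟩] at this⟩

/-- `T` controls fusion in `C(c1, c2)`. -/
theorem ctrl {x y : DW k} (hx : x ∈ T k) (hy : y ∈ T k)
    (f : Fu ι (Cen (ι (c1 k)) ⊓ Cen (ι (c2 k))) x y) : ∃ t ∈ T k, t * x * t⁻¹ = y := by
  have s : Sy ι (T k) (Cen (ι (c1 k)) ⊓ Cen (ι (c2 k))) := ⟨h.sy.inj, (syT h.sy).syl.mono
    (le_inf h.syT'.syl.le (syT h.sy).syl.le) inf_le_right⟩
  obtain ⟨g, hg, e⟩ := f
  obtain ⟨t, ht, r, hr, rfl⟩ := exists_res s hg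
  have hw : t⁻¹ * y * t * x⁻¹ ∈ T k := mul_mem (mul_mem (mul_mem (inv_mem ht) hy) ht) (inv_mem hx)
  have m : ι (t⁻¹ * y * t * x⁻¹) ∈ pResidualOf 2 (Cen (ι (c1 k)) ⊓ Cen (ι (c2 k))) := by
    convert mul_mem hr (conj_mem_of_norm (le_norm_res _ (s.mem hx)) (inv_mem hr)) using 1
    simp only [map_mul, map_inv, ← e]; group
  have m1 := (h.res_iff hw).1 (res_mono inf_le_right m)
  have m2 := (h.res_iff' hw).1 (res_mono inf_le_left m)
  have : t⁻¹ * y * t * x⁻¹ = 1 := DW.ext m2.1 m1.1 m2.2.1 m1.2.1 m1.2.2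
  exact ⟨t, ht, by rw [← mul_inv_eq_one.1 this]; group⟩

theorem exists_th (i : R k) : ∃ g φ, Th ι i g φ := by
  have sT := syT h.sy
  obtain ⟨g, φ0, m0, e0⟩ := sT.ext (x := s1 i) rfl T_le_cen_c1 (h.fs i)
  obtain ⟨t, ht, r, hr, rfl⟩ := exists_res sT m0.hg
  obtain ⟨φ1, m1, e1⟩ : ∃ φ, Mp ι (T k) (pResidualOf 2 (Cen (ι (c2 k)))) r (T k ⊓ Cen (s1 i)) φ ∧
      φ (s1 i) = c1 k := ⟨_, mp_conj m0 (inv_mem ht) hr (by simp), by
    simp only [e0]; rw [← comm_c1.2 (inv_mem ht), mul_inv_cancel_right]⟩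
  have hrY := res_le _ hr
  obtain ⟨j, ej⟩ : ∃ j, φ1 (c1 k) = s1 j := by
    refine ((D1_cases (h.mem_D1 (by simp) c1_sq (m1.mem _ (c1_mem i)) ((m1.fu (c1_mem i)).mono (res_le _)))
      (m1.sq_one (c1_mem i) c1_sq)).resolve_left (m1.ne_one (c1_mem i) c1_ne)).resolve_left fun e => ?_
    simpa [DW.ext_iff] using m1.inj' (c1_mem i) (s1_mem i) (e.trans e1.symm)
  have q1 : Cj ι r (s1 i) (c1 k) := e1 ▸ m1.eq _ (s1_mem i)
  have q2 : Cj ι r (c1 k) (s1 j) := ej ▸ m1.eq _ (c1_mem i)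
  have q3 : Cj ι r (s1 (i + hf k)) (s1 (j + hf k)) :=
    q1.mul q2 (s1_c1 i) (by rw [comm_c1.2 rfl, s1_c1])
  have q4 : Cj ι r (c2 k) (c2 k) := cj_of_cen hrY
  have ρ1 : ∀ j, Cj ι (ι (ro (mm k) 0)) (s1 j) (s1 (j + hf k)) := fun j =>
    Cj.of _ (by rw [conj_s1, two_mm])
  have ρ2 : Cj ι (ι (ro (mm k) 0)) (c1 k) (c1 k) := Cj.of _ (by ext <;> simp)
  have ρ3 : Cj ι (ι (ro (mm k) 0)) (c2 k) (c2 k) := Cj.of _ (by ext <;> simp)
  have ρ4 := ρ1 (i + hf k)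
  rw [add_hf_hf] at ρ4
  obtain ⟨a, ha⟩ : ∃ a, i - (j + hf k) = 2 * a := by
    obtain ⟨t, ht, e⟩ := h.ctrl (x := s1 i) (y := s1 (j + hf k)) rfl rfl
      ⟨_, ⟨((((q2.trans (ρ1 j)).trans q3.symm).trans ρ4).trans q1).cen,
        ((((q4.trans ρ3).trans q4.symm).trans ρ3).trans q4).cen⟩,
        (((q1.trans ρ2).trans q1.symm).trans (ρ1 i)).trans q3⟩
    exact ev_iff.1 (par_of_conj ht e)
  have hθ := mul_mem ((h.res_iff (x := ro a 0) rfl).2 (by simp)) hr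
  have m := mp_conj m1 (t := ro a 0) rfl hθ rfl
  generalize hφ : (fun x => ro a 0 * φ1 x * (ro a 0)⁻¹) = φ at m
  have f1 : φ (s1 i) = c1 k := by
    simp only [← hφ, e1]; rw [← comm_c1.2 rfl, mul_inv_cancel_right]
  have f2 : φ (c1 k) = s1 (i + hf k) := by
    simp only [← hφ, ej]; rw [conj_s1]; congr 1; linear_combination -ha - two_hf
  refine ⟨_, φ, m, f1, f2, (m.fu (D2_le_cen' i (by simp))).eq_of_cen h.sy.inj (res_le _), fun l => ?_⟩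
  have hl : s2 l ∈ T k ⊓ Cen (s1 i) := D2_le_cen' i (by simp)
  have hv : φ (s2 l) * (s2 l)⁻¹ ∈ D1 k := (h.res_iff (mul_mem (m.mem _ hl) (inv_mem hl.1))).1 (by
    rw [map_mul, map_inv, ← m.eq _ hl, mul_assoc, mul_assoc, ← mul_assoc (ι (s2 l))]
    exact mul_mem hθ (conj_mem_of_norm (le_norm_res _ (sT.mem rfl)) (inv_mem hθ)))
  have c : s1 (i + hf k) * φ (s2 l) = φ (s2 l) * s1 (i + hf k) :=
    f2 ▸ (m.comm (c1_mem i) hl).2 (comm_c1.2 rfl)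
  have c' : s1 (i + hf k) * (s2 l)⁻¹ = (s2 l)⁻¹ * s1 (i + hf k) := by ext <;> simp
  have fl := ((m.fu hl).mono le_top).symm.trans (h.s2c l)
  rcases cen_s1 hv (i := i + hf k) (by rw [← mul_assoc, c, mul_assoc, c', mul_assoc]) with e | e | e | e <;>
    rw [mul_inv_eq_iff_eq_mul] at e
  · exact Or.inl (by rw [e, one_mul])
  · exact (not_cz h.sy fl (by rw [e, comm_c1.2 rfl]; exact h.s2z l)).elim
  · have f := (m.fu (mul_mem (mul_mem (s1_mem i) (c1_mem i)) hl)).mono le_top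
    rw [m.mul (mul_mem (s1_mem i) (c1_mem i)) hl, m.mul (s1_mem i) (c1_mem i), f1, f2, e, s1_c1,
      show c1 k * s1 (i + hf k) * (s1 (i + hf k) * s2 l) = s2 l * c1 k by ext <;> simp; ring, ← e] at f
    exact (not_cz h.sy fl (f.trans (h.s2z l))).elim
  · exact Or.inr (by rw [e, add_hf_hf, s1_s2])

theorem th_z {i j : R k} (t : Th ι i g φ) (e : φ (s2 j) = s2 j) : Fu ι ⊤ (ss i j) (z k) := by
  have hl : s2 j ∈ T k ⊓ Cen (s1 i) := D2_le_cen' i (by simp)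
  have f := (t.mp.fu (mul_mem hl (c1_mem i))).mono le_top
  rw [t.mp.mul hl (c1_mem i), e, t.hc, s2_s1] at f
  exact (fu_ss_top (by simpa [neg_hf] using ev_hf) (by simpa using ev_zero)).trans (f.symm.trans (h.s2z j))

theorem th_c {i j : R k} (t : Th ι i g φ) (e : φ (s2 j) = ss i j) : Fu ι ⊤ (ss i j) (c1 k) :=
  (e ▸ ((t.mp.fu (D2_le_cen' i (by simp))).mono le_top).symm).trans (h.s2c j)

theorem ss_cases (i j : R k) : Fu ι ⊤ (ss i j) (c1 k) ∨ Fu ι ⊤ (ss i j) (z k) := by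
  obtain ⟨g, φ, t⟩ := h.exists_th i
  exact (t.hx j).symm.imp (h.th_c t) (h.th_z t)

theorem th_of_z {i j : R k} (t : Th ι i g φ) (f : Fu ι ⊤ (ss i j) (z k)) : φ (s2 j) = s2 j :=
  (t.hx j).resolve_right fun e => not_cz h.sy (h.th_c t e) f

theorem th_of_c {i j : R k} (t : Th ι i g φ) (f : Fu ι ⊤ (ss i j) (c1 k)) : φ (s2 j) = ss i j :=
  (t.hx j).resolve_left fun e => not_cz h.sy f (h.th_z t e)

theorem T_type {x : DW k} (hx : x ∈ T k) (x2 : x * x = 1) (x1 : x ≠ 1) :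
    Fu ι ⊤ x (c1 k) ∨ Fu ι ⊤ x (z k) := by
  rcases T_cases hx x2 with (e | rfl | rfl | rfl) | ⟨i, rfl | rfl⟩ | ⟨i, rfl | rfl⟩ | ⟨i, j, rfl⟩
  exacts [absurd e x1, Or.inl (Fu.refl _), Or.inl fu_c2, Or.inr (Fu.refl _), Or.inl (h.s1c i),
    Or.inr (h.s1z i), Or.inl (h.s2c i), Or.inr (h.s2z i), h.ss_cases i j]

theorem ev_of_c {i j : R k} (f : Fu ι ⊤ (ss i j) (c1 k)) : Ev (i - j) := by
  obtain ⟨g, φ, t⟩ := h.exists_th i
  obtain ⟨g', φ', t'⟩ := h.symm.exists_th j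
  have n := @hf_add k
  have n' := @neg_hf k
  have a1 : Cj ι g (s1 i) (c1 k) := t.hs ▸ t.mp.eq _ (s1_mem i)
  have a2 : Cj ι g (c1 k) (s1 (i + hf k)) := t.hc ▸ t.mp.eq _ (c1_mem i)
  have a3 : Cj ι g (c2 k) (c2 k) := cj_of_cen (res_le _ t.mp.hg)
  have a4 : Cj ι g (s2 j) (ss i j) := h.th_of_c t f ▸ t.mp.eq _ (D2_le_cen' i (by simp))
  have b1 : Cj ι g' (s2 j) (c2 k) := by
    have := t'.mp.eq _ (s1_mem j)
    rwa [t'.hs] at this
  have b2 : Cj ι g' (c2 k) (s2 (j + hf k)) := by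
    have := t'.mp.eq _ (c1_mem j)
    rwa [t'.hc] at this
  have b3 : Cj ι g' (c1 k) (c1 k) := cj_of_cen (res_le _ t'.mp.hg)
  have b4 : Cj ι g' (s1 i) (ss i j) := by
    have := t'.mp.eq (s2 i) (D2_le_cen' j (by simp))
    rwa [h.symm.th_of_c t' (f.trans fu_c2.symm)] at this
  have a5 : Cj ι g (ss (i + hf k) j) (s2 j) := ((a1.mul a2 rfl rfl).mul a4
    (by ext <;> simp [n']) (by ext <;> simp; linear_combination n))
  have a6 : Cj ι g (s2 (j + hf k)) (ss i (j + hf k)) := a4.mul a3 (s2_c2 j) (ss_c2 i j)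
  have b5 : Cj ι g' (s1 (i + hf k)) (ss (i + hf k) j) := b4.mul b3 (s1_c1 i) (ss_c1 i j)
  have b6 : Cj ι g' (ss i (j + hf k)) (s1 i) := ((b4.mul b1 rfl rfl).mul b2
    (by ext <;> simp [n']) (by ext <;> simp [n']; linear_combination n))
  have w1 : Cj ι (ι (ta k)) (c1 k) (c2 k) := Cj.of _ (sw_eq _)
  have w2 : Cj ι (ι (ta k)) (c2 k) (c1 k) := Cj.of _ (sw_eq _)
  have w3 : Cj ι (ι (ta k)) (s2 j) (s1 j) := Cj.of _ (sw_eq _)
  obtain ⟨u, hu, e⟩ := h.ctrl (x := s1 i) (y := s1 j) rfl rfl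
    ⟨_, ⟨(((((a2.trans b5).trans a5).trans b1).trans a3).trans w2).cen,
      (((((a3.trans b2).trans a6).trans b6).trans a1).trans w1).cen⟩,
      ((((a1.trans b3).trans a2).trans b5).trans a5).trans w3⟩
  exact par_of_conj hu e

theorem ssz {i j : R k} (e : ¬ Ev (i - j)) : Fu ι ⊤ (ss i j) (z k) :=
  (h.ss_cases i j).resolve_left fun f => e (h.ev_of_c f)

end Nrm

/-- The fusion pattern of `L₄(q)`, `q ≡ 3 (4)`, and `U₄(q)`, `q ≡ 1 (4)`. -/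
structure TyL (ι : DW k →* G) : Prop extends Nrm ι where
  ssc : ∀ i j, Ev (i - j) → Fu ι ⊤ (ss i j) (c1 k)
  tc : Fu ι ⊤ (ta k) (c1 k)

/-- The fusion pattern of `A₁₀`. -/
structure TyA (ι : DW k →* G) : Prop extends Nrm ι where
  ss0 : Fu ι ⊤ (ss 0 0) (c1 k)
  ss1 : Fu ι ⊤ (ss 1 1) (z k)
  tz : Fu ι ⊤ (ta k) (z k)

theorem ss_mem (i : R k) : ss i i ∈ ⊤ ⊓ Cen (ta k) := mem_cenT.2 (comm_ta.2 ⟨rfl, rfl⟩)
theorem ta_mem : ta k ∈ ⊤ ⊓ Cen (ta k) := self_cenA trivial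
theorem ss_pow : (ss 0 0 * ss 1 1) ^ 2 ^ (k + 1) = z k := by
  rw [show ss (0 : R k) 0 * ss 1 1 = ro (-1) (-1) by ext <;> simp, ro_pow, PS.cast_hf]
  ext <;> simp [neg_hf]

theorem fu_ss_ta (i : R k) : Fu ι ⊤ (ss i i * ta k) (ta k) := fu_out (by simp) (by ext <;> simp)

theorem ev_split {i j x y x' y' : R k} (e : Ev (i - j)) (e1 : Ev (x - y)) (e2 : Ev (x' - y'))
    (n : ¬ Ev (x - x')) : (Ev (i - x) ∧ Ev (j - y)) ∨ (Ev (i - x') ∧ Ev (j - y')) := by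
  by_cases h : Ev (i - x)
  · exact Or.inl ⟨h, by unfold Ev at *; linear_combination h - e + e1⟩
  · have := ev_or h n
    exact Or.inr ⟨by convert this using 1; ring, by unfold Ev at *; linear_combination this - e + e2⟩

namespace Nrm

variable (h : Nrm ι)
include h

theorem tyL (f : Fu ι ⊤ (ta k) (c1 k)) : TyL ι := by
  obtain ⟨g, φ, m, e⟩ := ext_c2 h.sy (f.trans fu_c2.symm)
  have hz : z k ∈ ⊤ ⊓ Cen (ta k) := mem_cenT.2 (z_comm _)
  have hy : ro (mm k) (mm k) ∈ ⊤ ⊓ Cen (ta k) := mem_cenT.2 (comm_ta.2 ⟨rfl, rfl⟩)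
  have ez : φ (z k) = z k := by
    rcases rot_cases (m.sq hy (b := z k) (by ext <;> simp [mm_add]) ▸ sq_rot (m.mem _ hy))
      (m.sq_one hz z_sq) with e' | e' | e' | e'
    exacts [absurd e' (m.ne_one hz z_ne), (not_c1_z h.sy (e' ▸ (m.fu hz).symm)).elim,
      (not_cz h.sy fu_c2 (e' ▸ (m.fu hz).symm)).elim, e']
  obtain ⟨x, y, x', y', e1, e2, n, -⟩ := pow_eq_z (m.mem _ (ss_mem 0)) (m.mem _ (ss_mem 1))
    (m.sq_one (ss_mem 0) (ss_sq _ _)) (m.sq_one (ss_mem 1) (ss_sq _ _)) (by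
      rw [← m.mul (ss_mem 0) (ss_mem 1), ← m.pow (mul_mem (ss_mem 0) (ss_mem 1)), ss_pow, ez])
  have key : ∀ i x y, φ (ss i i) = ss x y → Fu ι ⊤ (ss x y) (c1 k) := fun i x y e' => by
    have f' := m.fu (mul_mem (ss_mem i) ta_mem)
    rw [m.mul (ss_mem i) ta_mem, e, e'] at f'
    exact (Fu.of_top _ (conj_c2 rfl rfl)).trans (f'.symm.trans ((fu_ss_ta i).trans f))
  have k1 := key _ _ _ e1
  have k2 := key _ _ _ e2
  refine ⟨h, fun i j ev => ?_, f⟩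
  rcases ev_split ev (h.ev_of_c k1) (h.ev_of_c k2) n with e | e
  exacts [(fu_ss_top e.1 e.2).trans k1, (fu_ss_top e.1 e.2).trans k2]

theorem ta_type : Fu ι ⊤ (ta k) (c1 k) ∨ Fu ι ⊤ (ta k) (z k) := by
  obtain ⟨g, φ, m, e⟩ := h.sy.thompson Sy.units_pg Sy.units_uniq (fun g => sb g.p)
    (fun a _ b _ => by simp [sb_xor]) (mem_top (ta k)) ta_sq (h.res _)
  exact (h.T_type (sb_eq_one.1 e) (m.sq_one ta_mem ta_sq) (m.ne_one ta_mem ta_ne)).imp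
    (m.fu ta_mem).trans (m.fu ta_mem).trans

theorem tyA (f : Fu ι ⊤ (ta k) (z k)) : k = 0 ∧ (TyA ι ∨ TyA (ι.comp (DW.ga k))) := by
  obtain ⟨g, φ, m, e⟩ := h.sy.ext trivial top_le_cen_z f
  have hz : z k ∈ ⊤ ⊓ Cen (ta k) := mem_cenT.2 (z_comm _)
  have fz := (m.fu hz).symm
  have nr : ¬ ((φ (z k)).e = false ∧ (φ (z k)).f = false ∧ (φ (z k)).p = false) := fun r => by
    rcases rot_cases r (m.sq_one hz z_sq) with e' | e' | e' | e'
    exacts [m.ne_one hz z_ne e', not_c1_z h.sy (e' ▸ fz), not_cz h.sy fu_c2 (e' ▸ fz),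
      by simpa [DW.ext_iff] using m.inj' hz ta_mem (e'.trans e.symm)]
  have ew : (φ (ss 0 0) * φ (ss 1 1)) ^ 2 ^ (k + 1) = φ (z k) := by
    rw [← m.mul (ss_mem 0) (ss_mem 1), ← m.pow (mul_mem (ss_mem 0) (ss_mem 1)), ss_pow]
  obtain rfl : k = 0 := by
    by_contra n
    obtain ⟨l, rfl⟩ := Nat.exists_eq_succ_of_ne_zero n
    have pw : ∀ (w : DW l.succ) (n : ℕ), w ^ 2 ^ (n + 1 + 1) = (w * w) ^ 2 ^ n * (w * w) ^ 2 ^ n :=
      fun w n => by rw [← sq, ← sq, ← pow_mul, ← pow_mul]; congr 1; ring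
    rw [pw] at ew
    exact nr (ew ▸ sq_rot (pow_mem (by simp) _))
  refine ⟨rfl, ?_⟩
  replace ew := (sq _).symm.trans ew
  have a2 := m.sq_one (ss_mem 0) (ss_sq _ _)
  have b2 := m.sq_one (ss_mem 1) (ss_sq _ _)
  have key : ∀ i, φ (ss i i) ∈ T 0 → (φ (ss i i)).e ≠ (φ (ss i i)).f → Fu ι ⊤ (ss i i) (z 0) → False :=
    fun i hT n f0 => by
      have f1 := (m.fu (ss_mem i)).symm.trans f0
      have f2 := (m.fu (mul_mem (ss_mem i) ta_mem)).symm.trans ((fu_ss_ta i).trans f)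
      rw [m.mul (ss_mem i) ta_mem, e] at f2
      rcases T_cases hT (m.sq_one (ss_mem i) (ss_sq _ _)) with (e' | e' | e' | e') | ⟨j, e' | e'⟩ |
        ⟨j, e' | e'⟩ | ⟨j, l, e'⟩ <;> rw [e'] at n f1 f2
      any_goals simp at n
      · exact not_cz h.sy (h.s1c j) f1
      · rw [mul_assoc, c2_z, s1_c1] at f2
        exact not_cz h.sy (h.s1c _) f2
      · exact not_cz h.sy (h.s2c j) f1
      · rw [mul_assoc, c1_z, s2_c2] at f2
        exact not_cz h.sy (h.s2c _) f2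
  have mo : ∀ a b w : DW 0, a * a = 1 → b * b = 1 → a * b * (a * b) = w →
      ¬ (w.e = false ∧ w.f = false ∧ w.p = false) → (w = ss w.x w.y ∧ hf 0 * (w.x - w.y) = 0) ∧
        ((a.p = false ∧ a.e ≠ a.f) ∨ (b.p = false ∧ b.e ≠ b.f)) := by
    rintro ⟨x, y, _ | _, _ | _, _ | _⟩ ⟨x', y', _ | _, _ | _, _ | _⟩ _ aa bb rfl n <;>
      simp [DW.ext_iff] at aa bb n ⊢ <;> revert x y x' y' <;> decide
  obtain ⟨⟨e1, e2⟩, e3⟩ := mo _ _ _ a2 b2 ew nr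
  rw [e1] at fz
  have e4 := ev_split (i := (φ (z 0)).x) (j := (φ (z 0)).y) (x := 0) (y := 0) (x' := 1) (y' := 1) e2
    (by simpa using ev_zero) (by simpa using ev_zero) (by unfold Ev; decide)
  rcases h.ss_cases 0 0 with f0 | f0 <;> rcases h.ss_cases 1 1 with f1 | f1
  · exact (e4.elim (fun e => not_cz h.sy ((fu_ss_top e.1 e.2).trans f0) fz)
      fun e => not_cz h.sy ((fu_ss_top e.1 e.2).trans f1) fz).elim
  · exact Or.inl ⟨h, f0, f1, f⟩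
  · refine Or.inr ⟨h.ga, ?_, ?_, ?_⟩ <;> change Fu ι ⊤ (DW.ga 0 _) (DW.ga 0 _)
    · rw [ga_ss, ga_c1, zero_add]; exact f1
    · rw [ga_ss, ga_z]; exact (fu_ss_top (by unfold Ev; decide) (by unfold Ev; decide)).trans f0
    · rw [ga_ta, ga_z]; exact f
  · exact (e3.elim (fun e => key 0 e.1 e.2 f0) fun e => key 1 e.1 e.2 f1).elim

theorem cases : TyL ι ∨ (k = 0 ∧ (TyA ι ∨ TyA (ι.comp (DW.ga k)))) := h.ta_type.imp h.tyL h.tyA

end Nrm

end Cfsg.Agent.L4A
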