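import Mathlib
import Cfsg.Agent.L4A.FusB
import Cfsg.Agent.L4A.AutJ
import Cfsg.Agent.P4.Lift
import Cfsg.Agent.GW.Struct

/-! The centralizer of `c2` modulo its core: a normal subgroup `L₂(q)` or `A₇`; local balance. -/

set_option autoImplicit false
set_option linter.unusedSectionVars false

namespace Cfsg.Agent.L4A

open Cfsg.Agent.G2T Cfsg.Agent.P4 Cfsg.Agent.Loc.Mss Cfsg.Agent.GW Subgroup DW
open scoped MatrixGroups

variable {k : ℕ} {G X : Type*} [Group G] [Finite G] [Group X] {ι : DW k →* G} {π : G → X}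

theorem quo_odd {z : G} (q : Quo z π) : oddCore X = ⊥ := by
  have := q.finite
  have := GT.map_pPrimeCore_of_surjective q.hom_surj q.coprime_ker
  rw [eq_bot_iff, oddCore, ← this, ← GT.pPrimeCoreOf_subgroupOf, ← q.hom_ker]
  exact ((Subgroup.map_eq_bot_iff _).2 le_rfl).le

theorem quo_im {z a : G} (q : Quo z π) (aa : a * a = 1) (c : Commute a z) :
    Odd (Nat.card (q.im (UU a))) ∧ q.im (UU a) ≤ Cen (π a) ∧ Cen (π a) ≤ 𝐍[q.im (UU a)] := by
  have := q.finite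
  refine ⟨(odd_card_OO (Cen a)).of_dvd_nat ((card_map_dvd _ _).trans
    (card_comap_dvd_of_injective _ _ (subtype_injective _))), fun x hx => ?_, fun x hx => ?_⟩
  · obtain ⟨y, hy, c1, rfl⟩ := q.mem_im.1 hx
    exact mem_Cen.2 (q.comm c c1 (mem_Cen.1 (GT.pPrimeCoreOf_le _ hy)))
  · obtain ⟨g, g1, g2, rfl, -⟩ := q.lift_cen (isPGroup_zpowers_inv aa) (zpowers_le.2 (mem_Cen.2 c.symm))
      (q.comm_zpowers c (mem_Cen.1 hx).symm)
    refine mem_norm_of_cj_le (cj_le_iff.2 fun y hy => ?_)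
    obtain ⟨y, hy', c1, rfl⟩ := q.mem_im.1 hy
    exact q.mem_im.2 ⟨_, conj_mem_of_norm (GT.le_normalizer_pPrimeCoreOf (p := 2) (Cen a)
      (mem_Cen.2 (g2 _ (mem_zpowers _)).symm)) hy', (g1.mul_left c1).mul_left g1.inv_left, q.conj g1 c1⟩

/-- The first factor as a dihedral group. -/
def dh (k : ℕ) : DihedralGroup (2 ^ (k + 1 + 1)) →* DW k :=
  MonoidHom.mk' (fun d => DihedralGroup.casesOn d (fun i => ro i 0) fun i => s1 (-i)) (by
    rintro (i | i) (j | j) <;> ext <;> simp <;> ring)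

theorem dh_inj : Function.Injective (dh k) := by
  rintro (i | i) (j | j) e <;> simp [dh, DW.ext_iff] at e <;> rw [e]

theorem dh_range : (dh k).range = D1 k := le_antisymm
  (by rintro _ ⟨i | i, rfl⟩ <;> exact ⟨rfl, rfl, rfl⟩)
  (D1_le_of fun i => ⟨.sr (-i), by simp [dh]⟩)

theorem cT {x : DW k} (hx : x ∈ T k) : Commute (ι x) (ι (c2 k)) :=
  (show Commute x (c2 k) from (comm_c2.2 hx).symm).map ι

namespace Nrm

variable (h : Nrm ι) (q : Quo (ι (c2 k)) π)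
include h q

theorem pi_inj {a b : DW k} (ha : a ∈ T k) (hb : b ∈ T k) (e : π (ι a) = π (ι b)) : a = b :=
  h.sy.inj (q.inj_two (syT h.sy).syl.pg (syT h.sy).syl.le (mem_map_of_mem ι ha) (mem_map_of_mem ι hb) e)

omit h in
theorem pi_mul {a b : DW k} (ha : a ∈ T k) (hb : b ∈ T k) : π (ι (a * b)) = π (ι a) * π (ι b) := by
  rw [map_mul, q.mul _ _ (cT ha) (cT hb)]

theorem pi_ne {a : DW k} (ha : a ∈ T k) (n : a ≠ 1) : π (ι a) ≠ 1 := fun e =>
  n (h.pi_inj q ha rfl (by rw [e, map_one, q.one]))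

omit h in
theorem mem_imD {x : X} : x ∈ q.im ((D1 k).map ι) ↔ ∃ a ∈ D1 k, π (ι a) = x :=
  q.mem_im.trans ⟨by rintro ⟨_, ⟨a, ha, rfl⟩, -, e⟩; exact ⟨a, ha, e⟩,
    fun ⟨a, ha, e⟩ => ⟨_, mem_map_of_mem ι ha, cT ha.2.2, e⟩⟩

theorem exists_J : ∃ J : Subgroup X, J.Normal ∧ Syl 2 (q.im ((D1 k).map ι)) J ∧ J ⊓ 𝐂[J] = ⊥ ∧
    (∀ y ∈ 𝐂[J], Odd (orderOf y) → y = 1) ∧
    (IsL2 J ∨ (IsA7 J ∧ ∀ y, Odd (orderOf y) → y ∈ J)) := by
  have := q.finite
  have eR : ((pResidualOf 2 (Cen (ι (c2 k)))).subgroupOf (Cen (ι (c2 k)))).map q.hom =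
      pResidualOf 2 ⊤ := by
    rw [pResidualOf, subgroupOf, comap_map_eq_self_of_injective (subtype_injective _),
      GT.map_pResidual_of_surjective q.hom_surj, GT.pResidualOf_top]
  have s := (h.syD1.syl.subgroupOf (res_le _)).map q.hom
  rw [eR] at s
  have mR : ∀ g ∈ pResidualOf 2 (Cen (ι (c2 k))), π g ∈ pResidualOf 2 (⊤ : Subgroup X) := fun g hg =>
    eR ▸ ⟨⟨g, res_le _ hg⟩, hg, rfl⟩
  set R := pResidualOf 2 (⊤ : Subgroup X) with hR
  have nR : R.Normal := normal_of_top (le_norm_res _)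
  have odd : ∀ y : X, Odd (orderOf y) → y ∈ R := fun y hy => mem_res (mem_top y) hy.coprime_two_right
  let f : DihedralGroup (2 ^ (k + 1 + 1)) →* X := q.hom.comp ((ι.comp (dh k)).codRestrict _
    fun d => mem_Cen.2 (cT (D1_le (dh_range.le ⟨d, rfl⟩))).symm)
  have fi : Function.Injective f := fun a b e =>
    dh_inj (h.pi_inj q (D1_le (dh_range.le ⟨a, rfl⟩)) (D1_le (dh_range.le ⟨b, rfl⟩)) e)
  have fr : f.range = q.im ((D1 k).map ι) := Subgroup.ext fun x => Iff.trans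
    ⟨fun ⟨d, e⟩ => ⟨_, dh_range.le ⟨d, rfl⟩, e⟩, fun ⟨a, ha, e⟩ => by
      obtain ⟨d, rfl⟩ := dh_range.ge ha
      exact ⟨d, e⟩⟩ (mem_imD q).symm
  obtain ⟨P, -, hP⟩ := s.exists_sylow
  have hD : DihSyl R := ⟨P, _, by
    rw [pow_succ']; exact Nat.le_mul_of_pos_right _ (by positivity),
    ⟨((equivMapOfInjective _ _ R.subtype_injective).trans (MulEquiv.subgroupCongr
      (hP.trans fr.symm))).trans (MonoidHom.ofInjective fi).symm⟩⟩
  have hO : oddCore R = ⊥ := GT.pPrimeCoreOf_eq_bot_iff.1 (eq_bot_iff.2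
    ((GT.pPrimeCoreOf_le_pPrimeCoreOf le_top (norm_normal _ R)).trans
      (by rw [GT.pPrimeCoreOf_top]; exact (quo_odd q).le)))
  rcases hD.struct' hO with h1 | ⟨L, h1, h2, -, ⟨e⟩⟩ | ⟨L, h1, h2, h3, h4⟩ | h1
  · have := res_eq_bot_of_pg h1
    rw [hR, res_res] at this
    exact absurd (mem_bot.1 (this.le (s.le ((mem_imD q).2 ⟨_, by simp, rfl⟩)))) (h.pi_ne q rfl c1_ne)
  · exfalso
    have : R ≤ L.map R.subtype := (res_res ⊤).ge.trans (res_le_iff.2 fun y hy hc =>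
      ⟨⟨y, hy⟩, mem_of_pow_mem (p := 2) (k := 1) (by simpa using hc) (by
        obtain ⟨m, hm⟩ := h2
        rw [pow_one, hm, pow_mul]
        exact pow_mem (L.pow_index_mem _) _), rfl⟩)
    have c := (card_dvd_of_le (s.le.trans this)).trans (card_map_dvd _ _)
    change Nat.card (q.im _) ∣ _ at c
    rw [← fr, ← Nat.card_congr (MonoidHom.ofInjective fi).toEquiv, DihedralGroup.nat_card,
      Nat.card_congr e.toEquiv, nat_card_alternatingGroup] at c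
    have : 8 ∣ 12 := Dvd.dvd.trans (b := 2 * 2 ^ (k + 1 + 1)) ⟨2 ^ k, by ring⟩
      (by simpa [Nat.factorial] using c)
    omega
  · obtain ⟨F, _, _, o1, o2, ⟨e⟩⟩ := id h4
    have hp : Group.IsPerfect L := by
      have := sl_perfect o2
      exact Group.IsPerfect.ofSurjective (f := e.symm.toMonoidHom.comp (QuotientGroup.mk' _))
        (e.symm.surjective.comp (QuotientGroup.mk'_surjective _))
    have eJ : L.map R.subtype = ⁅R, R⁆ := by
      rw [← map_subtype_commutator]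
      congr 1
      exact le_antisymm ((Subgroup.isPerfect_iff.1 hp).ge.trans (commutator_mono le_top le_top)) h3
    have cJ : ∀ y ∈ R, y ∈ 𝐂[L.map R.subtype] → y = 1 := fun y hy hc =>
      congrArg Subtype.val (mem_bot.1 (h2.le (x := ⟨y, hy⟩) fun a ha =>
        Subtype.ext (mem_cent.1 hc _ (mem_map_of_mem _ ha))))
    refine ⟨L.map R.subtype, eJ ▸ inferInstance, s.mono (fun x hx => ?_) (map_subtype_le _),
      eq_bot_iff.2 fun y hy => cJ y (map_subtype_le _ hy.1) hy.2, fun y hy ho => cJ y (odd y ho) hy,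
      Or.inl (h4.of_equiv (equivMapOfInjective _ _ R.subtype_injective))⟩
    rw [eJ]
    obtain ⟨a, ha, rfl⟩ := (mem_imD q).1 hx
    refine D1_le_of (P := ((⁅R, R⁆.comap q.hom).map (Cen _).subtype).comap ι) (fun i => ?_) ha |>.elim
      fun y hy => ?_
    · obtain ⟨g, φ, t⟩ := h.exists_th (i + hf k)
      have c1 := (mem_Cen.1 (res_le _ t.mp.hg)).symm
      refine ⟨⟨_, mem_Cen.2 (cT rfl).symm⟩, ?_, rfl⟩
      have e1 := q.conj c1 (cT (x := s1 (i + hf k)) rfl)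
      rw [t.mp.eq _ (s1_mem _), t.hs] at e1
      have e2 : π (ι (s1 i)) * π (ι (s1 (i + hf k))) = π (ι (DW.c1 k)) := by
        rw [← pi_mul q rfl rfl]; congr 2; ext <;> simp [neg_hf]
      rw [SetLike.mem_coe, mem_comap, q.hom_apply, eq_mul_inv_of_mul_eq e2, e1]
      exact commutator_mem_commutator (mR _ t.mp.hg) (s.le ((mem_imD q).2 ⟨_, by simp, rfl⟩))
    · have := hy.1
      rwa [SetLike.mem_coe, mem_comap, q.hom_apply, show (y : G) = ι a from hy.2] at this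
  · obtain ⟨e⟩ := id h1
    have cJ : ∀ y ∈ R, y ∈ 𝐂[R] → y = 1 := fun y hy hc => by
      have : (e ⟨y, hy⟩ : Equiv.Perm (Fin 7)) = 1 := Sym.eq_one_of_commute_alternatingGroup (by simp)
        fun x hx => by
          obtain ⟨a, ha⟩ := e.surjective ⟨x, hx⟩
          have := congrArg (fun u => (e u : Equiv.Perm (Fin 7)))
            (show a * ⟨y, hy⟩ = ⟨y, hy⟩ * a from Subtype.ext (mem_cent.1 hc _ a.2))
          simpa [ha] using this
      exact congrArg Subtype.val (e.injective ((Subtype.ext this).trans (map_one e).symm))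
    exact ⟨R, nR, s, eq_bot_iff.2 fun y hy => cJ y hy.1 hy.2, fun y hy ho => cJ y (odd y ho) hy,
      Or.inr ⟨h1, odd⟩⟩

end Nrm

theorem exists_lam {K : Type*} [Group K] {J : Subgroup X} (e : J ≃* K) :
    ∃ Λ : K →* X, Function.Injective Λ ∧ Λ.range = J :=
  ⟨J.subtype.comp e.symm.toMonoidHom, J.subtype_injective.comp e.symm.injective, by
    rw [MonoidHom.range_comp, MonoidHom.range_eq_top.2 e.symm.surjective, map_subtype_top]⟩

theorem four_of {K : Type*} [Group K] {Λ : K →* X} (hi : Function.Injective Λ) (h : Nrm ι)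
    (q : Quo (ι (c2 k)) π) (hD : q.im ((D1 k).map ι) ≤ Λ.range) (i : R k) :
    ∃ x x', Λ x = π (ι (c1 k)) ∧ Λ x' = π (ι (s1 i)) ∧ x * x = 1 ∧ x' * x' = 1 ∧ x * x' = x' * x ∧
      x ≠ 1 ∧ x' ≠ 1 ∧ x ≠ x' := by
  obtain ⟨x, hx⟩ := hD ((Nrm.mem_imD q).2 ⟨c1 k, by simp, rfl⟩)
  obtain ⟨x', hx'⟩ := hD ((Nrm.mem_imD q).2 ⟨s1 i, by simp, rfl⟩)
  refine ⟨x, x', hx, hx', hi ?_, hi ?_, hi ?_, fun e => h.pi_ne q rfl c1_ne ?_,
    fun e => h.pi_ne q rfl (s1_ne i) ?_, fun e => ?_⟩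
  · rw [map_mul, hx, ← Nrm.pi_mul q rfl rfl, c1_sq, map_one, map_one, q.one]
  · rw [map_mul, hx', ← Nrm.pi_mul q rfl rfl, s1_sq, map_one, map_one, q.one]
  · rw [map_mul, map_mul, hx, hx', ← Nrm.pi_mul q rfl rfl, ← Nrm.pi_mul q rfl rfl, comm_c1.2 rfl]
  · rw [← hx, e, map_one]
  · rw [← hx', e, map_one]
  · simpa [DW.ext_iff] using h.pi_inj q (a := c1 k) (b := s1 i) rfl rfl (by rw [← hx, e, hx'])

/-- An element of odd order of `C(c2)` that centralizes `D1` and is inverted modulo the core lies in the core. -/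
theorem Nrm.mem_UU (h : Nrm ι) {y w : G} (hy : y ∈ Cen (ι (c2 k))) (ho : Odd (orderOf y))
    (hc : ∀ d ∈ D1 k, y * ι d * y⁻¹ * (ι d)⁻¹ ∈ UU (ι (c2 k))) (hw : w ∈ Cen (ι (c2 k)))
    (e : w * y * w⁻¹ * y ∈ UU (ι (c2 k))) : y ∈ UU (ι (c2 k)) := by
  obtain ⟨π, q, -⟩ := exists_quo (ι (c2 k))
  have cy := (mem_Cen.1 hy).symm
  have cw := (mem_Cen.1 hw).symm
  have o := q.odd_of_odd cy ho
  have c : ∀ d ∈ D1 k, Commute (π y) (π (ι d)) := fun d hd => by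
    have c1 := (cy.mul_left (cT hd.2.2)).mul_left cy.inv_left
    have := (q.ker _ (c1.mul_left (cT hd.2.2).inv_left)).2 (hc d hd)
    rw [q.mul _ _ c1 (cT hd.2.2).inv_left, q.inv (cT hd.2.2), q.conj cy (cT hd.2.2), mul_inv_eq_one] at this
    exact mul_inv_eq_iff_eq_mul.1 this
  have e' : π w * π y * (π w)⁻¹ = (π y)⁻¹ := by
    have c1 := (cw.mul_left cy).mul_left cw.inv_left
    have := (q.ker _ (c1.mul_left cy)).2 e
    rw [q.mul _ _ c1 cy, q.conj cw cy] at this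
    exact eq_inv_of_mul_eq_one_left this
  obtain ⟨J, hJ, s, -, h1, ⟨F, _, _, o1, -, ⟨f⟩⟩ | ⟨⟨f⟩, h2⟩⟩ := h.exists_J q <;>
    obtain ⟨Λ, hi, rfl⟩ := exists_lam f <;> refine (q.ker y cy).1 ?_
  · obtain ⟨x, x', e1, e2, a1, a2, a3, a4, a5, a6⟩ := four_of hi h q s.le 0
    exact h1 _ (u2_l2 o1 hi a1 a2 a3 a4 a5 a6 o (e1 ▸ c _ (by simp)) (e2 ▸ c _ (by simp)) e') o
  · obtain ⟨a, ha⟩ := h2 _ o
    obtain ⟨ρ, hρ⟩ := s.le ((Nrm.mem_imD q).2 ⟨ro (mm k) 0, by simp, rfl⟩)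
    have r2 : Λ (ρ * ρ) = π (ι (c1 k)) := by
      rw [map_mul, hρ, ← Nrm.pi_mul q rfl rfl]; congr 2; ext <;> simp [mm_add]
    have : (a : Equiv.Perm (Fin 7)) = 1 := a7_four (y := a) (ρ := ρ) (by
        rwa [orderOf_coe, ← orderOf_injective Λ hi, ha])
      (show (a : Equiv.Perm (Fin 7)) * ρ = ρ * a from congrArg Subtype.val
        (hi (by rw [map_mul, map_mul, ha, hρ]; exact c _ (by simp)) : a * ρ = ρ * a)) ρ.2
      (congrArg Subtype.val (hi (by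
        rw [map_mul, r2, ← Nrm.pi_mul q rfl rfl, c1_sq, map_one, map_one, q.one]) : ρ * ρ * (ρ * ρ) = 1))
      fun e => h.pi_ne q rfl c1_ne (by rw [← r2, show ρ * ρ = 1 from Subtype.ext e, map_one])
    rw [← ha, show a = 1 from Subtype.ext this, map_one]

theorem f_cases {f : DW k} (hf' : f ∈ T k) (ff : f * f = 1) (e : f.f = true) :
    ∃ u ∈ D1 k, ∃ i j, f = u * s2 j ∧ f * s1 i = s1 i * f := by
  rcases T_cases hf' ff with (rfl | rfl | rfl | rfl) | ⟨i, rfl | rfl⟩ | ⟨i, rfl | rfl⟩ | ⟨i, j, rfl⟩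
  any_goals simp at e
  · exact ⟨1, one_mem _, 0, i, (one_mul _).symm, by ext <;> simp⟩
  · exact ⟨c1 k, by simp, 0, i, by ext <;> simp, by ext <;> simp [neg_hf]⟩
  · exact ⟨s1 i, by simp, i, j, (s1_s2 i j).symm, by ext <;> simp⟩

theorem cen_D1 {v : DW k} (hv : v ∈ D1 k) (h : ∀ d ∈ D1 k, d * v = v * d) : v = 1 ∨ v = c1 k := by
  rcases cen_s1 hv (h (s1 0) (by simp)) with e | e | e | e
  exacts [Or.inl e, Or.inr e, by
    have := h (s1 1) (by simp)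
    simp [e, DW.ext_iff] at this
    exact absurd (by linear_combination this) (two_ne_zero' (k := k)), by
    have := h (s1 1) (by simp)
    simp [e, DW.ext_iff] at this
    exact absurd (by linear_combination this + two_hf) (two_ne_zero' (k := k))]

theorem TyL.not_inner (h : TyL ι) (q : Quo (ι (c2 k)) π) {J : Subgroup X} [J.Normal]
    (s : Syl 2 (q.im ((D1 k).map ι)) J) (hJ : J ⊓ 𝐂[J] = ⊥) {u : DW k} (hu : u ∈ D1 k) (j : R k) {a : X}
    (ha : a ∈ J) : π (ι (u * s2 j)) * a⁻¹ ∉ 𝐂[J] := fun hc => by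
  have := q.finite
  have mD : ∀ d ∈ D1 k, π (ι d) ∈ J := fun d hd => s.le ((Nrm.mem_imD q).2 ⟨d, hd, rfl⟩)
  have nC : (𝐂[J]).Normal := inferInstance
  obtain ⟨b, hb, hc⟩ : ∃ b ∈ J, π (ι (s2 j)) * b⁻¹ ∈ 𝐂[J] := ⟨(π (ι u))⁻¹ * a,
    mul_mem (inv_mem (mD u hu)) ha, by
      have := nC.conj_mem _ hc (π (ι u))⁻¹
      rw [Nrm.pi_mul q hu.2.2 rfl] at this
      convert this using 1; group⟩
  have act : ∀ x ∈ J, π (ι (s2 j)) * x * (π (ι (s2 j)))⁻¹ = b * x * b⁻¹ := fun x hx => by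
    have := mem_cent.1 hc _ (‹J.Normal›.conj_mem _ hx b)
    calc _ = π (ι (s2 j)) * b⁻¹ * (b * x * b⁻¹) * (π (ι (s2 j)) * b⁻¹)⁻¹ := by group
      _ = _ := by rw [← this, mul_inv_cancel_right]
  have ss : π (ι (s2 j)) * π (ι (s2 j)) = 1 := by rw [← Nrm.pi_mul q rfl rfl, s2_sq, map_one, q.one]
  have bb : b * b = 1 := mem_bot.1 (hJ.le ⟨mul_mem hb hb, mem_cent.2 fun x hx => by
    have := act _ (‹J.Normal›.conj_mem _ hx (π (ι (s2 j))))
    rw [cj2, ss, act x hx, cj2, one_mul, inv_one, mul_one, eq_mul_inv_iff_mul_eq] at this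
    exact this⟩)
  have cb : ∀ d ∈ D1 k, π (ι d) * b = b * π (ι d) := fun d hd => by
    have := act _ (mD d hd)
    rwa [← Nrm.pi_mul q rfl hd.2.2, ← D1_comm_D2 hd (by simp), Nrm.pi_mul q hd.2.2 rfl,
      mul_inv_cancel_right, eq_mul_inv_iff_mul_eq] at this
  obtain ⟨v, hv, rfl⟩ := (Nrm.mem_imD q).1 (s.le_of_norm' (isPGroup_zpowers_inv bb) (zpowers_le.2 hb)
    (zpowers_le.2 (cent_le_norm _ (mem_cent.2 fun x hx => by
      obtain ⟨d, hd, rfl⟩ := (Nrm.mem_imD q).1 hx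
      exact cb d hd))) (mem_zpowers b))
  have key : ∀ i (w w' : DW k) (g : G), w ∈ T k → g ∈ Cen (ι (c2 k)) → π (ι w) ∈ 𝐂[J] →
      g * ι w * g⁻¹ = ι (s1 i * w) → False := fun i w w' g hw hg c e => by
    have c' := nC.conj_mem _ c (π g)
    rw [← q.conj (mem_Cen.1 hg).symm (cT hw), e, Nrm.pi_mul q rfl hw, mul_mem_cancel_right c] at c'
    exact h.pi_ne q rfl (s1_ne i) (mem_bot.1 (hJ.le ⟨mD _ (by simp), c'⟩))
  rcases cen_D1 hv fun d hd => h.pi_inj q (mul_mem hd.2.2 hv.2.2) (mul_mem hv.2.2 hd.2.2) (by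
    rw [Nrm.pi_mul q hd.2.2 hv.2.2, Nrm.pi_mul q hv.2.2 hd.2.2, cb d hd]) with rfl | rfl
  · obtain ⟨g, φ, t⟩ := h.exists_th j
    rw [map_one, q.one, inv_one, mul_one] at hc
    refine key j _ 1 g rfl (res_le _ t.mp.hg) hc ?_
    rw [t.mp.eq _ (D2_le_cen' j (by simp)), h.th_of_c t (h.ssc _ _ (by simpa using ev_zero)), s1_s2]
  · obtain ⟨g, φ, t⟩ := h.exists_th (j + 1)
    have hl : s2 j ∈ T k ⊓ Cen (s1 (j + 1)) := D2_le_cen' _ (by simp)
    rw [← q.inv (cT rfl), ← map_inv, ← Nrm.pi_mul q rfl (inv_mem rfl),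
      inv_eq_of_mul_eq_one_right c1_sq] at hc
    refine key (j + 1) _ 1 g (by simp) (res_le _ t.mp.hg) hc ?_
    rw [t.mp.eq _ (mul_mem hl (c1_mem _)), t.mp.mul hl (c1_mem _), t.hc, h.th_of_z t (h.ssz (by
      simpa using not_ev_odd (0 : R k)))]
    congr 1; ext <;> simp [neg_hf]

/-- Balance for the involutions acting as outer automorphisms. -/
theorem TyL.bl_out (h : TyL ι) {f : DW k} (hf' : f ∈ T k) (ff : f * f = 1) (e : f.f = true) :
    UU (ι f) ⊓ Cen (ι (c2 k)) ≤ UU (ι (c2 k)) := fun y hy => by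
  obtain ⟨π, q, -⟩ := exists_quo (ι (c2 k))
  have f2 : ι f * ι f = 1 := by rw [← map_mul, ff, map_one]
  obtain ⟨y1, y2, y3⟩ := quo_im q f2 (cT hf')
  have cy := (mem_Cen.1 hy.2).symm
  have my := q.mem_im.2 ⟨y, hy.1, cy, rfl⟩
  have o : ∀ x ∈ q.im (UU (ι f)), Odd (orderOf x) := fun x hx => y1.of_dvd_nat (orderOf_dvd_natCard _ hx)
  obtain ⟨u, hu, i, j, eu, ci⟩ := f_cases hf' ff e
  obtain ⟨J, hJ, s, h0, h1, ⟨F, _, _, o1, o2, ⟨g⟩⟩ | ⟨⟨g⟩, h2⟩⟩ := h.exists_J q <;>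
    obtain ⟨Λ, hi, rfl⟩ := exists_lam g <;> refine (q.ker y cy).1 ?_
  · obtain ⟨x, x', e1, e2, a1, a2, a3, a4, a5, a6⟩ := four_of hi h.toNrm q s.le i
    exact h1 _ (u1_l2 o1 o2 hi a1 a2 a3 a4 a5 a6 (q.sq (cT hf') f2)
      (e1 ▸ q.comm (cT hf') (cT rfl) (Commute.map (comm_c1.2 hf').symm ι))
      (e2 ▸ q.comm (cT hf') (cT rfl) (Commute.map ci ι))
      (fun a => eu ▸ h.not_inner q s h0 hu j ⟨a, rfl⟩) y1 y2 y3 my) (o _ my)
  · exact mem_bot.1 ((u1_a7 hi (q.sq (cT hf') f2) (fun a => eu ▸ h.not_inner q s h0 hu j ⟨a, rfl⟩) o y2 y3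
      fun x hx => h2 x (o x hx)).le my)

end Cfsg.Agent.L4A
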