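import Mathlib
import Cfsg.Agent.L4A.CU

/-! The pattern of `L₄(q)`: fusion in the centralizer of `z`, the subgroup of index two, the quotient
by the core; normal subgroups contain the Sylow 2-subgroup. -/

set_option autoImplicit false
set_option linter.unusedSectionVars false

namespace Cfsg.Agent.L4A

open Cfsg.Agent.G2T Cfsg.Agent.P4 Cfsg.Agent.Loc.Mss Cfsg.Agent.GW Subgroup DW

variable {k : ℕ} {G X : Type*} [Group G] [Finite G] [Group X] {ι : DW k →* G} {π : G → X}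

/-- The conjugate embedding. -/
def cji (g : G) (ι : DW k →* G) : DW k →* G := (MulAut.conj g).toMonoidHom.comp ι

theorem cji_apply (g : G) (x : DW k) : cji g ι x = g * ι x * g⁻¹ := rfl

theorem fu_cji {H : Subgroup G} {x y : DW k} (f : Fu ι H x y) (g : G) : Fu (cji g ι) cj(g, H) x y := by
  obtain ⟨a, ha, e⟩ := f
  exact ⟨_, conj_mem_cj ha, by rw [cji_apply, cji_apply, ← e]; group⟩

theorem fu_cji_top {x y : DW k} (f : Fu ι ⊤ x y) (g : G) : Fu (cji g ι) ⊤ x y := (fu_cji f g).mono le_top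

theorem Nrm.cji (h : Nrm ι) (g : G) : Nrm (cji g ι) :=
  ⟨⟨(MulAut.conj g).injective.comp h.sy.inj, by
    rw [L4A.cji, ← map_map]; exact h.sy.syl.cj_mem (mem_top g)⟩, h.res,
    fun i => by rw [cji_apply, ← Cen_conj]; exact fu_cji (h.fs i) g⟩

theorem czm (t : DW k) : ι t ∈ Cen (ι (z k)) := mem_Cen.2 ((show Commute (z k) t from (z_comm t).symm).map ι)

theorem czc (t : DW k) : Commute (ι t) (ι (z k)) := (mem_Cen.1 (czm t)).symm

theorem sy_z (h : Sy ι ⊤ ⊤) : Sy ι ⊤ (Cen (ι (z k))) :=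
  ⟨h.inj, h.syl.mono (by rintro _ ⟨c, -, rfl⟩; exact czm c) le_top⟩

theorem isq {x : DW k} (h : x * x = 1) : ι x * ι x = 1 := by rw [← map_mul, h, map_one]

theorem into {A : Subgroup (DW k)} {H : Subgroup G} (h : Sy ι A H) {t : G} (tt : t * t = 1) (c : t ∈ H) :
    ∃ g ∈ H, ∃ c ∈ A, c * c = 1 ∧ g * ι c * g⁻¹ = t := by
  obtain ⟨g, hg, c, hc, e⟩ := h.conj_mem c (n := 1) (by rw [pow_one, sq, tt])
  exact ⟨g⁻¹, inv_mem hg, c, hc, h.inj (by rw [map_mul, ← e, conj_mul, tt]; simp), by rw [← e]; group⟩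

theorem fz_of {x y : DW k} (t : DW k) (e : t * x * t⁻¹ = y) : Fu ι (Cen (ι (z k))) x y :=
  Fu.of_conj t (czm t) e

theorem fz_out {x : DW k} (h : x ∉ T k) (h2 : x * x = 1) : Fu ι (Cen (ι (z k))) x (ta k) := by
  obtain ⟨t, -, e⟩ := out_conj h h2
  exact fz_of t e

theorem sqrt_z_conj {a : DW k} (ha : a ∈ T k) (h : a * a = z k) :
    ∃ t, t * a * t⁻¹ = ro (mm k) (mm k) := by
  have := hf_ne (k := k)
  rcases a with ⟨x, y, _ | _, _ | _, _ | _⟩ <;> simp [DW.ext_iff, this.symm, ← two_mul, two_eq_hf] at ha h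
  obtain ⟨rfl | rfl, rfl | rfl⟩ := h
  exacts [⟨1, by simp; rfl⟩, ⟨s2 0, by ext <;> simp⟩, ⟨s1 0, by ext <;> simp⟩, ⟨ss 0 0, by ext <;> simp⟩]

theorem ev_sub_iff {i j : R k} : Ev (i - j) ↔ Ev (i + j) := by
  unfold Ev
  exact ⟨fun h => by linear_combination h + j * two_hf, fun h => by linear_combination h - j * two_hf⟩

namespace TyL

variable (h : TyL ι)
include h

theorem cji (g : G) : TyL (cji g ι) :=
  ⟨h.toNrm.cji g, fun i j e => fu_cji_top (h.ssc i j e) g, fu_cji_top h.tc g⟩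

theorem ga : TyL (ι.comp (DW.ga k)) := by
  refine ⟨h.toNrm.ga, fun i j e => ?_, ?_⟩ <;> change Fu ι ⊤ (DW.ga k _) (DW.ga k _)
  · rw [ga_ss, ga_c1]; exact h.ssc _ _ (by simpa using e)
  · rw [ga_ta, ga_c1]; exact h.tc

theorem out_c {x : DW k} (hx : x ∉ T k) (x2 : x * x = 1) : Fu ι ⊤ x (c1 k) := (fu_out hx x2).trans h.tc

theorem type {x : DW k} (x2 : x * x = 1) (x1 : x ≠ 1) : Fu ι ⊤ x (c1 k) ∨ Fu ι ⊤ x (z k) := by
  by_cases hx : x ∈ T k
  exacts [h.T_type hx x2 x1, Or.inl (h.out_c hx x2)]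

theorem exists_fz : ∃ g φ, Mp ι (T k) (Cen (ι (z k))) g (⊤ ⊓ Cen (ta k)) φ ∧ φ (ta k) = c2 k ∧
    φ (z k) = z k := by
  obtain ⟨g, φ, m, e⟩ := ext_c2 h.sy (h.tc.trans fu_c2.symm)
  have hz : z k ∈ ⊤ ⊓ Cen (ta k) := mem_cenT.2 (z_comm _)
  have hy : ro (mm k) (mm k) ∈ ⊤ ⊓ Cen (ta k) := mem_cenT.2 (comm_ta.2 ⟨rfl, rfl⟩)
  have ez : φ (z k) = z k := by
    rcases rot_cases (m.sq hy (b := z k) (by ext <;> simp [mm_add]) ▸ sq_rot (m.mem _ hy))
      (m.sq_one hz z_sq) with e' | e' | e' | e'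
    exacts [absurd e' (m.ne_one hz z_ne), (not_c1_z h.sy (e' ▸ (m.fu hz).symm)).elim,
      (not_cz h.sy fu_c2 (e' ▸ (m.fu hz).symm)).elim, e']
  exact ⟨g, φ, m.mono_right (m.mem_cen hz ez), e, ez⟩

theorem fz_ta : Fu ι (Cen (ι (z k))) (ta k) (c2 k) := by
  obtain ⟨g, φ, m, e, -⟩ := h.exists_fz
  exact e ▸ m.fu ta_mem

theorem fz_y : Fu ι (Cen (ι (z k))) (ro (mm k) (mm k) * ta k) (ro (mm k) (mm k)) := by
  obtain ⟨g, φ, m, -, ez⟩ := h.exists_fz
  have hy : ro (mm k) (mm k) * ta k ∈ ⊤ ⊓ Cen (ta k) := mul_mem (mem_cenT.2 (comm_ta.2 ⟨rfl, rfl⟩)) ta_mem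
  obtain ⟨t, e⟩ := sqrt_z_conj (m.mem _ hy) ((m.sq hy (b := z k) (by ext <;> simp [mm_add])).trans ez)
  exact (m.fu hy).trans (fz_of t e)

theorem fz_ss {i j : R k} (ev : Ev (i - j)) : Fu ι (Cen (ι (z k))) (ss i j) (c2 k) := by
  obtain ⟨g, φ, m, e, ez⟩ := h.exists_fz
  obtain ⟨x, y, x', y', e1, e2, n, -⟩ := pow_eq_z (m.mem _ (ss_mem 0)) (m.mem _ (ss_mem 1))
    (m.sq_one (ss_mem 0) (ss_sq _ _)) (m.sq_one (ss_mem 1) (ss_sq _ _)) (by
      rw [← m.mul (ss_mem 0) (ss_mem 1), ← m.pow (mul_mem (ss_mem 0) (ss_mem 1)), ss_pow, ez])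
  have key : ∀ i x y, φ (ss i i) = ss x y → Fu ι (Cen (ι (z k))) (ss x y) (c2 k) := fun i x y e' => by
    have f' := m.fu (mul_mem (ss_mem i) ta_mem)
    rw [m.mul (ss_mem i) ta_mem, e, e'] at f'
    exact (fz_of _ (conj_c2 rfl rfl)).trans
      (f'.symm.trans ((fz_out (by simp) (by ext <;> simp)).trans h.fz_ta))
  have k1 := key _ _ _ e1
  have k2 := key _ _ _ e2
  rcases ev_split ev (h.ev_of_c ((k1.mono le_top).trans fu_c2)) (h.ev_of_c ((k2.mono le_top).trans fu_c2))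
    n with e | e
  exacts [(fu_ss (fun t _ => czm t) e.1 e.2).trans k1, (fu_ss (fun t _ => czm t) e.1 e.2).trans k2]

/-- The involutions with equal signs. -/
theorem ef_cases {x : DW k} (x2 : x * x = 1) (e : x.e = x.f) : x = 1 ∨ x = z k ∨
    Fu ι (Cen (ι (z k))) x (c2 k) ∨ ∃ i j, ¬ Ev (i - j) ∧ x = ss i j := by
  by_cases hx : x ∈ T k
  swap
  · exact .inr (.inr (.inl ((fz_out hx x2).trans h.fz_ta)))
  rcases T_cases hx x2 with (e' | rfl | rfl | e') | ⟨i, rfl | rfl⟩ | ⟨i, rfl | rfl⟩ | ⟨i, j, rfl⟩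
  any_goals simp at e
  exacts [.inl e', .inr (.inr (.inl (fz_of _ (sw_eq _)))), .inr (.inr (.inl (Fu.refl _))), .inr (.inl e'),
    .inr (.inr ((em' _).symm.imp h.fz_ss fun n => ⟨i, j, n, rfl⟩))]

theorem z_ef {x : DW k} (f : Fu ι ⊤ x (z k)) (n : x ≠ z k) (e : x.e = x.f) :
    ∃ i j, ¬ Ev (i - j) ∧ x = ss i j := by
  rcases h.ef_cases (f.sq_eq_one h.sy.inj z_sq) e with e' | e' | e' | e'
  exacts [absurd e' (f.symm.ne_one h.sy.inj z_ne), absurd e' n,
    (not_cz h.sy ((e'.mono le_top).trans fu_c2) f).elim, e']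

theorem ne_of_cz {x : DW k} (f : Fu ι ⊤ x (c1 k)) (f' : Fu ι ⊤ (x * z k) (z k)) : x.e ≠ x.f := fun e => by
  rcases h.ef_cases (f.sq_eq_one h.sy.inj c1_sq) e with e' | e' | e' | ⟨i, j, n, e'⟩
  exacts [f.symm.ne_one h.sy.inj c1_ne e', not_c1_z h.sy (e' ▸ f.symm),
    not_c1_z h.sy ((c2_z (k := k) ▸ (fu_mul e' le_rfl).mono le_top).symm.trans f'),
    not_cz h.sy f (e' ▸ h.ssz n)]

theorem ss_closed {i j : R k} (n : ¬ Ev (i - j)) {x : DW k} (f : Fu ι (Cen (ι (z k))) (ss i j) x) :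
    ∃ i j, ¬ Ev (i - j) ∧ x = ss i j := by
  have f1 := (f.symm.mono le_top).trans (h.ssz n)
  have f2 : Fu ι ⊤ (x * z k) (z k) := ((fu_mul f le_rfl).symm.mono le_top).trans (by
    rw [show ss i j * z k = ss (i + hf k) (j + hf k) by ext <;> simp [neg_hf]]
    exact h.ssz (by simpa using n))
  have x2 := f1.sq_eq_one h.sy.inj z_sq
  refine h.z_ef f1 (fun e => ?_) ?_
  · rw [e, z_sq] at f2
    exact z_ne (f2.symm.eq_one h.sy.inj)
  have hx : x ∈ T k := by_contra fun hx => not_cz h.sy (h.out_c hx x2) f1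
  rcases T_cases hx x2 with (rfl | rfl | rfl | rfl) | ⟨i, rfl | rfl⟩ | ⟨i, rfl | rfl⟩ | ⟨i, j, rfl⟩
  any_goals rfl
  · exact (not_cz h.sy (h.s1c i) f1).elim
  · rw [mul_assoc, c2_z, s1_c1] at f2
    exact (not_cz h.sy (h.s1c _) f2).elim
  · exact (not_cz h.sy (h.s2c i) f1).elim
  · rw [mul_assoc, c1_z, s2_c2] at f2
    exact (not_cz h.sy (h.s2c _) f2).elim

end TyL

/-- A subgroup of index two of `C(z)` with Sylow 2-subgroup `U`. -/
structure Hf (ι : DW k →* G) (H : Subgroup G) : Prop where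
  le : H ≤ Cen (ι (z k))
  half : ∀ g ∈ Cen (ι (z k)), ∀ g' ∈ Cen (ι (z k)), g ∉ H → g' ∉ H → g * g' ∈ H
  mem : ∀ c, ι c ∈ H ↔ c ∈ U k

theorem U_le_of {A : Subgroup (DW k)} (h : ∀ c ∈ U k, c.e = c.f → c ∈ A) (h' : s2 0 ∈ A) : U k ≤ A :=
  fun c hc => by
    by_cases e : c.e = c.f
    · exact h c hc e
    · refine (mul_mem_cancel_left h').1 (h _ (mul_mem (by simpa using ev_zero) hc) ?_)
      revert e
      simp only [mul_e, mul_f, s2_e, s2_f, s2_p]
      cases c.e <;> cases c.f <;> simp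

theorem Q_le_of {A : Subgroup (DW k)} [hA : A.Normal] (h1 : ro 2 0 ∈ A) (h2 : ta k ∈ A) {c : DW k}
    (hc : c ∈ U k) (e : c.e = c.f) : c ∈ A := by
  have r : ∀ x y, Ev (x + y) → ro x y ∈ A := fun x y ev => by
    obtain ⟨a, ha⟩ := ev_iff.1 ev
    convert mul_mem (ro_mul_mem h1 a) (mul_mem (hA.conj_mem _ h2 (ro (-y) 0)) h2) using 1
    ext <;> simp; linear_combination ha
  have s : ss 0 0 ∈ A := by
    convert mul_mem (hA.conj_mem _ h2 (s1 0)) h2 using 1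
    ext <;> simp
  rcases c with ⟨x, y, _ | _, _ | _, _ | _⟩ <;> simp at e
  exacts [r x y hc, by convert mul_mem (r x y hc) h2 using 1; ext <;> simp,
    by convert mul_mem (r x y hc) s using 1; ext <;> simp,
    by convert mul_mem (mul_mem (r x y hc) s) h2 using 1; ext <;> simp]

theorem U_half {a b : DW k} (ha : a ∉ U k) (hb : b ∉ U k) : a * b ∈ U k := by
  have := ev_or ha hb
  rcases a with ⟨x, y, _ | _, _ | _, _ | _⟩ <;> simp [Ev] at this ⊢ <;>
    first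
    | linear_combination this
    | linear_combination this - b.x * two_hf
    | linear_combination this - b.y * two_hf
    | linear_combination this - (b.x + b.y) * two_hf

theorem not_ev_one : ¬ Ev (1 : R k) := by simpa using not_ev_odd (0 : R k)

theorem d_not_mem : ss 1 0 ∉ U k := by simpa using not_ev_one

theorem TyL.exists_hf (h : TyL ι) : ∃ H, Hf ι H ∨ Hf (ι.comp (DW.ga k)) H := by
  classical
  obtain ⟨H, h1, h2, -, h4, h5, -⟩ := (sy_z h.sy).exists_half (fun c => if c ∈ U k then 1 else -1)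
    fun a _ b _ => by
      by_cases ha : a ∈ U k <;> by_cases hb : b ∈ U k <;>
        simp only [ha, hb, mul_mem_cancel_left, mul_mem_cancel_right, U_half, not_false_eq_true] <;> simp
  have nd : ι (ss 1 0) ∉ H := fun e => by
    obtain ⟨g, φ, m, e'⟩ := h5 _ trivial (ss_sq _ _) e
    obtain ⟨i, j, n, e2⟩ := h.ss_closed (by simpa using not_ev_one) (m.fu (self_cenA trivial))
    rw [e2, if_neg (show ss i j ∉ U k from fun e => n (ev_sub_iff.2 e))] at e'
    exact absurd e' (by decide)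
  have sq : ∀ c, ι (c * c) ∈ H := fun c => by
    rw [map_mul]
    by_cases e : ι c ∈ H
    exacts [mul_mem e e, h4 _ (czm c) _ (czm c) e e]
  have nA : (H.comap ι).Normal := ⟨fun a ha t => by
    rw [mem_comap, map_mul, map_mul, map_inv]; exact conj_mem_of_norm (h2 (czm t)) ha⟩
  have hQ : ∀ c ∈ U k, c.e = c.f → c ∈ H.comap ι := fun c => Q_le_of
    (by convert mem_comap.2 (sq (ro 1 0)) using 1; ext <;> simp; ring) (by
      obtain ⟨g, hg, e⟩ := h.fz_ta.symm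
      exact mem_comap.2 (e ▸ conj_mem_of_norm (h2 hg) (by
        convert sq (ro 0 (mm k)) using 2; ext <;> simp [mm_add])))
  have fin : ∀ ι' : DW k →* G, ι' (z k) = ι (z k) → ι' (ss 1 0) ∉ H → U k ≤ H.comap ι' → Hf ι' H :=
    fun ι' e n l => ⟨e ▸ h1, e ▸ h4, fun c => ⟨fun hc => by_contra fun n' =>
      n ((mul_mem_cancel_left hc).1 (map_mul ι' _ _ ▸ l (U_half n' d_not_mem))), fun hc => l hc⟩⟩
  by_cases e : ι (s2 0) ∈ H
  · exact ⟨H, .inl (fin ι rfl nd (U_le_of hQ e))⟩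
  refine ⟨H, .inr (fin _ (congrArg ι ga_z) (fun e' => nd ?_) (U_le_of (fun c hc e' => hQ _ ?_ e') ?_))⟩
  · refine (mul_mem_cancel_left e').1 ?_
    rw [MonoidHom.comp_apply, ← map_mul]
    exact hQ _ (by simp [DW.ga, Ev]; linear_combination two_hf) rfl
  · simp only [DW.ga, mem_U, MonoidHom.mk'_apply, e', Ev] at hc ⊢
    linear_combination hc + cond c.f 1 0 * two_hf
  · have := h4 _ (czm _) _ (czm _) e nd
    rw [← map_mul] at this
    refine (mul_mem_cancel_left this).1 ?_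
    rw [MonoidHom.comp_apply, ← map_mul]
    exact hQ _ (by simp [DW.ga, Ev]; linear_combination two_hf) rfl

/-- The Sylow 2-subgroup in `C(z) / O(C(z))`. -/
def kap (ι : DW k →* G) (q : Quo (ι (z k)) π) : DW k →* X := q.hom.comp (ι.codRestrict _ czm)

theorem kap_apply (q : Quo (ι (z k)) π) (c : DW k) : kap ι q c = π (ι c) := rfl

theorem sy_kap (h : Sy ι ⊤ ⊤) (q : Quo (ι (z k)) π) : haveI := q.finite; Sy (kap ι q) ⊤ ⊤ :=
  ⟨fun a b e => h.inj (q.inj_two h.syl.pg (sy_z h).syl.le (mem_map_of_mem ι trivial)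
    (mem_map_of_mem ι trivial) e), by
      have := ((sy_z h).syl.subgroupOf le_rfl).map q.hom
      rw [subgroupOf_self, map_top_of_surjective _ q.hom_surj] at this
      convert this using 1
      rw [kap, ← map_map]
      congr 1
      ext x
      exact ⟨fun ⟨c, _, e⟩ => ⟨c, trivial, congrArg Subtype.val e⟩,
        fun ⟨c, _, e⟩ => ⟨c, trivial, Subtype.ext e⟩⟩⟩

theorem fu_kap (q : Quo (ι (z k)) π) {x y : DW k} (f : Fu ι (Cen (ι (z k))) x y) :
    Fu (kap ι q) ⊤ x y := by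
  obtain ⟨g, hg, e⟩ := f
  exact ⟨π g, trivial, by rw [kap_apply, kap_apply, ← q.conj (mem_Cen.1 hg).symm (czc x), e]⟩

/-- A normal subgroup of even order contains the Sylow 2-subgroup. -/
theorem Nrm.mem_normal (h : Nrm ι) (hO : oddCore G = ⊥) {N : Subgroup G} [hN : N.Normal] (n : N ≠ ⊥)
    (c : DW k) : ι c ∈ N := by
  have fu : ∀ {x y}, Fu ι ⊤ x y → ι y ∈ N → ι x ∈ N := fun f hy => by
    obtain ⟨g, -, e⟩ := f.symm
    exact e ▸ hN.conj_mem _ hy g
  have hz : ι (z k) ∈ N := by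
    by_contra e
    have hi := injective_of_z ((QuotientGroup.mk' N).comp ι) fun e' => e ((QuotientGroup.eq_one_iff _).1 e')
    refine n (eq_bot_of_odd hO (Nat.coprime_two_right.1
      ((h.sy.syl.inf le_top (norm_normal _ N)).eq_bot_iff.1 (eq_bot_iff.2 ?_))))
    rintro _ ⟨⟨a, -, rfl⟩, ha⟩
    rw [show a = 1 from hi (((QuotientGroup.eq_one_iff _).2 ha).trans (map_one _).symm), map_one]
    exact one_mem _
  have h1 : c1 k ∈ N.comap ι := by
    have : ro 1 0 ∈ N.comap ι := by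
      convert mul_mem (mem_comap.2 (fu (h.s1z 1) hz)) (mem_comap.2 (fu (h.s1z 0) hz)) using 1
      ext <;> simp [hf_add]
    convert ro_mul_mem this (hf k) using 1
    ext <;> simp
  have hT : T k ≤ N.comap ι := T_le_of (fun i => fu (h.s1c i) h1) fun i => fu (h.s2c i) h1
  have ht : ta k ∈ N.comap ι := h.ta_type.elim (fu · h1) (fu · hz)
  by_cases hc : c ∈ T k
  · exact hT hc
  · exact (mul_mem_cancel_right ht).1 (hT (x := c * ta k) (by simpa using hc))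

end Cfsg.Agent.L4A
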