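import Mathlib
import Cfsg.Agent.L4A.FusC

/-! The pattern of `L₄(q)`: normal forms of commuting pairs of involutions. -/

set_option autoImplicit false
set_option linter.unusedSectionVars false

namespace Cfsg.Agent.L4A

open Cfsg.Agent.G2T Cfsg.Agent.P4 Cfsg.Agent.Loc.Mss Cfsg.Agent.GW Subgroup DW

variable {k : ℕ} {G : Type*} [Group G] [Finite G] {ι : DW k →* G}

theorem cji_cen {g : G} {x : DW k} (h : g ∈ Cen (ι x)) : cji g ι x = ι x := cj_of_cen h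

theorem inv_mod {Y W : Subgroup G} {f y : G} (ho : Odd (Nat.card Y)) (ff : f * f = 1) (hf : f ∈ 𝐍[Y])
    (hW : Y ≤ 𝐍[W]) (h : Y ⊓ Cen f ≤ W) (hy : y ∈ Y) : f * y * f⁻¹ * y ∈ W := by
  have fi := inv_eq_of_mul_eq_one_right ff
  have m : y * f * y⁻¹ * f ∈ Y := by
    have := mul_mem hy (conj_mem_of_norm hf (inv_mem hy))
    rwa [fi, ← mul_assoc, ← mul_assoc] at this
  obtain ⟨d, hd, e⟩ := exists_conj_zpowers (a := y * f * y⁻¹) (by rw [conj_mul, ff]; simp) ff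
    (ho.of_dvd_nat (orderOf_dvd_natCard _ m))
  have dY := zpowers_le.2 m hd
  have c : f * (d⁻¹ * y) = d⁻¹ * y * f := by
    rw [← mul_left_inj y⁻¹, mul_assoc d⁻¹, mul_assoc d⁻¹, ← e]; group
  have cW := h (mem_inf.2 ⟨mul_mem (inv_mem dY) hy, mem_Cen.2 c⟩)
  have i : f * d * f⁻¹ = d⁻¹ := by
    obtain ⟨n, rfl⟩ := mem_zpowers_iff.1 hd
    rw [← conj_zpow, ← inv_zpow]
    congr 1
    rw [mul_inv_rev, mul_inv_rev, mul_inv_rev, inv_inv, fi, mul_assoc, mul_assoc, ff]; group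
  convert mul_mem (conj_mem_of_norm' (hW dY) cW) cW using 1
  calc f * y * f⁻¹ * y = f * d * f⁻¹ * (f * (d⁻¹ * y) * f⁻¹) * y := by group
    _ = _ := by rw [i, c]; group

namespace TyL

variable (h : TyL ι)
include h

theorem pos_a {a : G} (aa : a * a = 1) (a1 : a ≠ 1) : IsConj (ι (z k)) a ∨ ∃ g, L4A.cji g ι (c2 k) = a := by
  obtain ⟨g, -, c, -, cc, rfl⟩ := into h.sy aa (mem_top a)
  refine (h.type cc fun e => a1 (by simp [e])).symm.imp (fun f => ?_) fun f => ?_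
  · exact f.symm.isConj.trans (isConj_iff.2 ⟨g, rfl⟩)
  · obtain ⟨g', -, e⟩ := fu_c2.trans f.symm
    exact ⟨g * g', by rw [cji_apply, ← e]; group⟩

theorem th_s2 {i j : R k} {g : G} {φ : DW k → DW k} (t : Th ι i g φ) :
    (Ev (i - j) ∧ Cj ι g (s2 j) (ss i j) ∧ Cj ι g (s2 j * c1 k) (s2 j * c1 k)) ∨
      (¬ Ev (i - j) ∧ Cj ι g (s2 j) (s2 j) ∧ Cj ι g (s2 j * c1 k) (ss (i + hf k) j)) := by
  have a2 : Cj ι g (c1 k) (s1 (i + hf k)) := t.hc ▸ t.mp.eq _ (c1_mem i)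
  by_cases e : Ev (i - j)
  · have a : Cj ι g (s2 j) (ss i j) := h.th_of_c t (h.ssc _ _ e) ▸ t.mp.eq _ (D2_le_cen' i (by simp))
    exact .inl ⟨e, a, a.mul a2 rfl (by ext <;> simp [neg_hf])⟩
  · have a := t.mp.eq (s2 j) (D2_le_cen' i (by simp))
    rw [h.th_of_z t (h.ssz e)] at a
    exact .inr ⟨e, a, Cj.mul a a2 rfl (s2_s1 _ _)⟩

theorem T_pos {f : DW k} (hf' : f ∈ T k) (ff : f * f = 1) : ∃ f', Fu ι (Cen (ι (c2 k))) f' f ∧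
    ((f.f = false ∧ (f' = 1 ∨ f' = c2 k ∨ f' = c1 k ∨ f' = z k)) ∨
      (f.f = true ∧ ∃ j, f' = s2 j ∨ f' = s2 j * c1 k)) := by
  rcases T_cases hf' ff with (rfl | rfl | rfl | rfl) | ⟨i, rfl | rfl⟩ | ⟨i, rfl | rfl⟩ | ⟨i, j, rfl⟩
  exacts [⟨_, .refl _, .inl ⟨rfl, .inl rfl⟩⟩, ⟨_, .refl _, .inl ⟨rfl, by simp⟩⟩,
    ⟨_, .refl _, .inl ⟨rfl, by simp⟩⟩, ⟨_, .refl _, .inl ⟨rfl, by simp⟩⟩,
    ⟨_, (h.fs i).symm, .inl ⟨rfl, by simp⟩⟩,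
    ⟨_, (h.dz (by simp) (s1_sq i) (s1_ne i)).symm, .inl ⟨rfl, by simp⟩⟩,
    ⟨_, .refl _, .inr ⟨rfl, i, .inl rfl⟩⟩, ⟨_, .refl _, .inr ⟨rfl, i, .inr rfl⟩⟩, by
      by_cases e : Ev (i - j)
      · obtain ⟨g, φ, t⟩ := h.exists_th i
        exact ⟨_, ⟨g, res_le _ t.mp.hg, ((h.th_s2 t).resolve_right fun n => n.1 e).2.1⟩,
          .inr ⟨rfl, j, .inl rfl⟩⟩
      · obtain ⟨g, φ, t⟩ := h.exists_th (i + hf k)
        have := ((h.th_s2 (j := j) t).resolve_left fun n => e (by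
          have := n.1
          unfold Ev at *; linear_combination this - hf_hf)).2.2
        rw [add_hf_hf] at this
        exact ⟨_, ⟨g, res_le _ t.mp.hg, this⟩, .inr ⟨rfl, j, .inr rfl⟩⟩]

theorem pos_b {b : G} (bb : b * b = 1) (hb : b ∈ Cen (ι (c2 k))) : ∃ g ∈ Cen (ι (c2 k)), ∃ f,
    L4A.cji g ι f = b ∧ ((f = 1 ∨ f = c2 k ∨ f = c1 k ∨ f = z k) ∨ ∃ j, f = s2 j ∨ f = s2 j * c1 k) := by
  obtain ⟨g, hg, c, hc, cc, rfl⟩ := into (syT h.sy) bb hb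
  obtain ⟨f, ⟨g', hg', e⟩, e'⟩ := h.T_pos hc cc
  exact ⟨g * g', mul_mem hg hg', f, by rw [cji_apply, ← e]; group, e'.imp And.right And.right⟩

end TyL

end Cfsg.Agent.L4A
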